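import Cfsg.Agent.JordanP.Tori

/-!
Jordan's class equation.

The elements outside `Z` either have a small centraliser, or lie in exactly one family attached to
the core of a torus.  Counting shows that some core is small, unless there is at most one of them;
raising the threshold then removes a whole conjugacy class of cores, and only boundedly many
classes exist.  So `G` has an abelian subgroup of bounded index.
-/

set_option autoImplicit false
set_option linter.unusedSectionVars false
set_option linter.style.haveILetI false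

open Subgroup

namespace Cfsg.Agent.JordanP

universe u

/-- Summing an invariant weight over orbits. -/
theorem dvd_sum_of_orbits {H X : Type*} [Group H] [MulAction H X] [Fintype X] (w : X → ℕ) (N : ℕ)
    (hw : ∀ (h : H) (x : X), w (h • x) = w x)
    (hN : ∀ x, N ∣ w x * Nat.card (MulAction.orbit H x)) : N ∣ ∑ x, w x := by
  classical
  rw [← Finset.sum_fiberwise Finset.univ (fun x => Quotient.mk (MulAction.orbitRel H X) x) w]
  refine Finset.dvd_sum fun ω _ => ?_
  induction ω using Quotient.ind with
  | _ x =>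
  have hfib : ∀ y : X, Quotient.mk (MulAction.orbitRel H X) y = Quotient.mk _ x ↔
      y ∈ MulAction.orbit H x :=
    fun y => Quotient.eq.trans MulAction.orbitRel_apply
  rw [Finset.sum_congr rfl (g := fun _ => w x) (fun y hy => by
    obtain ⟨h, rfl⟩ := (hfib y).mp (Finset.mem_filter.mp hy).2
    exact hw h x), Finset.sum_const, smul_eq_mul, mul_comm]
  have hN' := hN x
  rw [Nat.card_eq_fintype_card, ← Set.toFinset_card] at hN'
  suffices e : (Finset.univ.filter fun y => Quotient.mk (MulAction.orbitRel H X) y =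
      Quotient.mk _ x).card = (MulAction.orbit H x).toFinset.card by
    rw [e]; exact hN'
  congr 1
  ext y
  simp [hfib]

variable {G : Type u} [Group G] [Finite G] {Z : Subgroup G} {J : ℕ}

/-- The smallest threshold. -/
def baseBound (J : ℕ) : ℕ := J * J * (J * J) * coreBound J

/-- The bound for normalisers of cores. -/
def normBound (J : ℕ) : ℕ := J * J * coreBound J

/-- The bound for small centralisers. -/
def smallBound (J L : ℕ) : ℕ := J * J * J * coreBound J * L

/-- The multiplier in the class equation. -/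
def multiplier (J L : ℕ) : ℕ := (J * smallBound J L).factorial * (normBound J).factorial

/-- The next threshold. -/
def nextBound (J L : ℕ) : ℕ := 2 * multiplier J L * coreBound J + L

theorem pow_four_le_baseBound (hJ : 1 ≤ J) : J * J * (J * J) ≤ baseBound J :=
  Nat.le_mul_of_pos_right _ (one_le_coreBound hJ)

theorem cube_le_baseBound (hJ : 1 ≤ J) : J * J * J ≤ baseBound J :=
  le_trans (by nlinarith [Nat.mul_pos (Nat.mul_pos hJ hJ) hJ]) (pow_four_le_baseBound hJ)

theorem coreBound_le_baseBound (hJ : 1 ≤ J) : coreBound J ≤ baseBound J :=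
  Nat.le_mul_of_pos_left _ (Nat.mul_pos (Nat.mul_pos hJ hJ) (Nat.mul_pos hJ hJ))

theorem one_le_baseBound (hJ : 1 ≤ J) : 1 ≤ baseBound J :=
  (one_le_coreBound hJ).trans (coreBound_le_baseBound hJ)

/-- The cores of tori. -/
def Cores (Z : Subgroup G) (L : ℕ) : Set (Subgroup G) :=
  {D | ∃ T, Torus Z L T ∧ core Z L T = D}

variable {L : ℕ}

theorem Hyp.torus_shares_trans (H : Hyp Z J) (hL : baseBound J ≤ L) {T T' T'' : Subgroup G}
    (hT : Torus Z L T) (hT' : Torus Z L T') (hT'' : Torus Z L T'') (h1 : Shares Z T T')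
    (h2 : Shares Z T' T'') : Shares Z T T'' :=
  shares_of_shares H ((pow_four_le_baseBound H.one_le).trans hL) hT'.1 hT'.2.1 hT hT''
    (shares_symm h1) h2

theorem core_eq_of_shares (H : Hyp Z J) (hL : baseBound J ≤ L) {T T' : Subgroup G}
    (hT : Torus Z L T) (hT' : Torus Z L T') (h : Shares Z T T') : core Z L T = core Z L T' :=
  le_antisymm
    (le_core fun _ hS hs => core_le hS (H.torus_shares_trans hL hT hT' hS h hs))
    (le_core fun _ hS hs => core_le hS (H.torus_shares_trans hL hT' hT hS (shares_symm h) hs))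

theorem core_le_self (H : Hyp Z J) (hL : baseBound J ≤ L) {T : Subgroup G} (hT : Torus Z L T) :
    core Z L T ≤ T :=
  core_le hT (hT.shares_self ((one_le_baseBound H.one_le).trans hL))

theorem core_ab (H : Hyp Z J) (hL : baseBound J ≤ L) {T : Subgroup G} (hT : Torus Z L T) :
    Ab Z (core Z L T) :=
  ⟨le_core fun _ hS _ => hS.1.1,
    fun a ha b hb => hT.1.2 a (core_le_self H hL hT ha) b (core_le_self H hL hT hb)⟩

theorem core_not_le (H : Hyp Z J) (hL : baseBound J ≤ L) {T : Subgroup G} (hT : Torus Z L T) :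
    ¬ core Z L T ≤ Z :=
  not_le_of_card ((coreBound_le_baseBound H.one_le).trans hL) hT.2.1
    (card_le_core H ((pow_four_le_baseBound H.one_le).trans hL) hT)

/-- Centralisers of cores. -/
theorem card_normalizer_core (H : Hyp Z J) (hL : baseBound J ≤ L) {T : Subgroup G}
    (hT : Torus Z L T) :
    Nat.card (normalizer (core Z L T : Set G)) ≤ normBound J * Nat.card (core Z L T) := by
  have hcore := card_le_core H ((pow_four_le_baseBound H.one_le).trans hL) hT
  obtain ⟨d, hd, hdZ⟩ := SetLike.not_le_iff_exists.mp (core_not_le H hL hT)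
  have hdT := core_le_self H hL hT hd
  obtain ⟨A, hA, hdA, -, hcard, hAmax⟩ := H.exists_max hdZ
  have h1 : Nat.card A ≤ Nat.card T :=
    hT.2.2 A hA (hT.2.1.of_card_le (hAmax T hT.1 hdT)) (fun h => hdZ (h ⟨hdA, hdT⟩))
  have h2 : Nat.card (centralizer (core Z L T : Set G)) ≤
      Nat.card (centralizer ({d} : Set G)) :=
    Nat.le_of_dvd Nat.card_pos (card_dvd_of_le (centralizer_le (Set.singleton_subset_iff.mpr hd)))
  calc Nat.card (normalizer (core Z L T : Set G))
      ≤ J * Nat.card (centralizer (core Z L T : Set G)) := H.norm _ (core_ab H hL hT).2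
    _ ≤ J * (J * (coreBound J * Nat.card (core Z L T))) :=
        Nat.mul_le_mul_left _ (h2.trans (hcard.trans (Nat.mul_le_mul_left _ (h1.trans hcore))))
    _ = normBound J * Nat.card (core Z L T) := by rw [normBound]; ring

/-! ### Automorphisms fixing `Z` -/

section Map

variable (e : G ≃* G) (he : ∀ z, e z ∈ Z ↔ z ∈ Z)
include he

theorem card_map_equiv (M : Subgroup G) : Nat.card (M.map e.toMonoidHom) = Nat.card M :=
  card_map_of_injective e.injective

theorem ab_map {M : Subgroup G} (hM : Ab Z M) : Ab Z (M.map e.toMonoidHom) := by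
  refine ⟨fun z hz => ⟨e.symm z, hM.1 ((he _).mp (by simpa using hz)), e.apply_symm_apply z⟩, ?_⟩
  rintro _ ⟨a, ha, rfl⟩ _ ⟨b, hb, rfl⟩
  rw [← map_mul, ← map_mul, hM.2 a ha b hb]

theorem symm_mem_iff : ∀ z, e.symm z ∈ Z ↔ z ∈ Z := fun z => by
  rw [← he, e.apply_symm_apply]

theorem shares_map {M N : Subgroup G} (h : Shares Z M N) :
    Shares Z (M.map e.toMonoidHom) (N.map e.toMonoidHom) := by
  obtain ⟨x, ⟨hx1, hx2⟩, hxZ⟩ := SetLike.not_le_iff_exists.mp h
  exact fun h' => hxZ ((he x).mp (h' ⟨⟨x, hx1, rfl⟩, ⟨x, hx2, rfl⟩⟩))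

theorem map_map_symm (M : Subgroup G) :
    (M.map e.symm.toMonoidHom).map e.toMonoidHom = M := by
  ext x
  simp

theorem torus_map {T : Subgroup G} (hT : Torus Z L T) : Torus Z L (T.map e.toMonoidHom) := by
  refine ⟨ab_map e he hT.1, ?_, fun M hM hMb hs => ?_⟩
  · rw [Big, card_map_equiv e he]; exact hT.2.1
  · have he' := symm_mem_iff e he
    have h1 : Shares Z (M.map e.symm.toMonoidHom) T := by
      have := shares_map e.symm he' hs
      have e1 : (T.map e.toMonoidHom).map e.symm.toMonoidHom = T := map_map_symm e.symm he' T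
      rwa [e1] at this
    have := hT.2.2 _ (ab_map e.symm he' hM) (by rw [Big, card_map_equiv e.symm he']; exact hMb) h1
    rw [card_map_equiv e he]
    rwa [card_map_equiv e.symm he'] at this

theorem map_core_le {T : Subgroup G} :
    (core Z L T).map e.toMonoidHom ≤ core Z L (T.map e.toMonoidHom) := by
  refine le_core fun S hS hs => ?_
  have he' := symm_mem_iff e he
  have h1 : Shares Z T (S.map e.symm.toMonoidHom) := by
    have := shares_map e.symm he' hs
    have e1 : (T.map e.toMonoidHom).map e.symm.toMonoidHom = T := map_map_symm e.symm he' T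
    rwa [e1] at this
  exact (map_mono (core_le (torus_map e.symm he' hS) h1)).trans (map_map_symm e he S).le

theorem map_core {T : Subgroup G} :
    (core Z L T).map e.toMonoidHom = core Z L (T.map e.toMonoidHom) := by
  refine le_antisymm (map_core_le e he) ?_
  have he' := symm_mem_iff e he
  have := map_mono (f := e.toMonoidHom)
    (map_core_le (L := L) e.symm he' (T := T.map e.toMonoidHom))
  have e1 : (T.map e.toMonoidHom).map e.symm.toMonoidHom = T := map_map_symm e.symm he' T
  rw [map_map_symm e he, e1] at this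
  exact this

theorem cores_map {D : Subgroup G} (hD : D ∈ Cores Z L) : D.map e.toMonoidHom ∈ Cores Z L := by
  obtain ⟨T, hT, rfl⟩ := hD
  exact ⟨_, torus_map e he hT, (map_core e he).symm⟩

end Map

/-- Conjugation fixes `Z`. -/
theorem Hyp.conj_mem_iff (H : Hyp Z J) (g z : G) : MulAut.conj g z ∈ Z ↔ z ∈ Z := by
  have key : ∀ g z : G, z ∈ Z → g * z * g⁻¹ = z := fun g z hz => by
    rw [mem_center_iff.mp (H.le_center hz) g, mul_inv_cancel_right]
  refine ⟨fun h => ?_, fun h => by rw [MulAut.conj_apply, key g z h]; exact h⟩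
  have := key g⁻¹ _ h
  rw [MulAut.conj_apply] at this
  have e : g⁻¹ * (g * z * g⁻¹) * g⁻¹⁻¹ = z := by simp [mul_assoc]
  rw [e] at this
  rwa [MulAut.conj_apply, ← this] at h

/-! ### Families -/

/-- The family of a core. -/
def family (Z : Subgroup G) (L : ℕ) (D : Subgroup G) : Set G :=
  {g | g ∈ normalizer (D : Set G) ∧
    (g ∈ D ∨ L * Nat.card Z < Nat.card (D ⊓ centralizer {g} : Subgroup G))}

theorem family_map_subset (e : G ≃* G) {D : Subgroup G} {g : G}
    (hg : g ∈ family Z L D) : e g ∈ family Z L (D.map e.toMonoidHom) := by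
  obtain ⟨hn, h⟩ := hg
  have hmap : ∀ x, e x ∈ D.map e.toMonoidHom ↔ x ∈ D := fun x =>
    mem_map_iff_mem (f := e.toMonoidHom) e.injective
  refine ⟨mem_normalizer_iff.mpr fun x => ?_, ?_⟩
  · obtain ⟨y, rfl⟩ := e.surjective x
    rw [← map_inv, ← map_mul, ← map_mul]
    exact (hmap y).trans ((mem_normalizer_iff.mp hn y).trans (hmap _).symm)
  rcases h with h | h
  · exact Or.inl ((hmap g).mpr h)
  · refine Or.inr (h.trans_le ?_)
    rw [← card_map_of_injective (f := e.toMonoidHom) (K := D ⊓ centralizer {g}) e.injective]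
    refine Nat.le_of_dvd Nat.card_pos (card_dvd_of_le ?_)
    rintro _ ⟨x, ⟨hx1, hx2⟩, rfl⟩
    refine ⟨(hmap x).mpr hx1, mem_centralizer_singleton_iff.mpr ?_⟩
    change e x * e g = e g * e x
    rw [← map_mul, ← map_mul, mem_centralizer_singleton_iff.mp hx2]

theorem card_family_map (g : G) (D : Subgroup G) :
    Nat.card (family Z L (D.map (MulAut.conj g).toMonoidHom)) = Nat.card (family Z L D) := by
  have key : ∀ (e : G ≃* G) (D : Subgroup G),
      Nat.card (family Z L D) ≤ Nat.card (family Z L (D.map e.toMonoidHom)) := fun e D =>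
    Nat.card_le_card_of_injective (fun x => ⟨e x.1, family_map_subset e x.2⟩)
      fun x y h => Subtype.ext (e.injective (congrArg Subtype.val h))
  refine le_antisymm ?_ (key _ _)
  have := key (MulAut.conj g).symm (D.map (MulAut.conj g).toMonoidHom)
  have e1 : (D.map (MulAut.conj g).toMonoidHom).map (MulAut.conj g).symm.toMonoidHom = D := by
    ext x; simp [mul_assoc]
  rwa [e1] at this

/-- Families are unions of cosets. -/
theorem card_family_eq {D : Subgroup G} (hD : ∀ a ∈ D, ∀ b ∈ D, a * b = b * a) :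
    ∃ k, Nat.card (family Z L D) = k * Nat.card D := by
  refine ⟨Nat.card ((QuotientGroup.mk : G → G ⧸ D) '' family Z L D), ?_⟩
  have hinv : ∀ g, g ∈ family Z L D → ∀ d ∈ D, g * d ∈ family Z L D := by
    rintro g ⟨hn, h⟩ d hd
    refine ⟨mul_mem hn (le_normalizer hd), ?_⟩
    rcases h with h | h
    · exact Or.inl (mul_mem h hd)
    · refine Or.inr (h.trans_le (Nat.le_of_dvd Nat.card_pos (card_dvd_of_le ?_)))
      rintro x ⟨hx1, hx2⟩
      refine ⟨hx1, mem_centralizer_singleton_iff.mpr ?_⟩
      calc x * (g * d) = (x * g) * d := (mul_assoc _ _ _).symm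
        _ = (g * x) * d := by rw [mem_centralizer_singleton_iff.mp hx2]
        _ = g * (x * d) := mul_assoc _ _ _
        _ = g * (d * x) := by rw [hD x hx1 d hd]
        _ = g * d * x := (mul_assoc _ _ _).symm
  have heq : family Z L D =
      (QuotientGroup.mk : G → G ⧸ D) ⁻¹' ((QuotientGroup.mk : G → G ⧸ D) '' family Z L D) := by
    refine Set.Subset.antisymm (Set.subset_preimage_image _ _) ?_
    rintro x ⟨g, hg, hgx⟩
    have := hinv g hg _ (QuotientGroup.eq.mp hgx)
    rwa [mul_inv_cancel_left] at this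
  conv_lhs => rw [heq]
  rw [Nat.card_congr (QuotientGroup.preimageMkEquivSubgroupProdSet D _), Nat.card_prod, mul_comm]

theorem le_normalizer_family {D : Subgroup G} : (D : Set G) ⊆ family Z L D :=
  fun _ hx => ⟨le_normalizer hx, Or.inl hx⟩

/-- A member of a family outside `Z` has a big abelian subgroup meeting the torus. -/
theorem exists_big_of_family (H : Hyp Z J) (hL : baseBound J ≤ L) {T : Subgroup G}
    (hT : Torus Z L T) {g : G} (hg : g ∈ family Z L (core Z L T)) :
    ∃ M, Ab Z M ∧ Big Z L M ∧ g ∈ M ∧ Shares Z M T := by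
  have h1L : 1 ≤ L := (one_le_baseBound H.one_le).trans hL
  rcases hg.2 with h | h
  · exact ⟨T, hT.1, hT.2.1, core_le_self H hL hT h, hT.shares_self h1L⟩
  set M₀ := core Z L T ⊓ centralizer {g}
  have hM₀ : Ab Z M₀ := by
    refine ⟨le_inf (core_ab H hL hT).1 ?_, fun a ha b hb => (core_ab H hL hT).2 a ha.1 b hb.1⟩
    exact fun z hz => mem_centralizer_singleton_iff.mpr
      (mem_center_iff.mp (H.le_center hz) g).symm
  have hM₀b : Big Z L M₀ := h
  have hab := ab_sup hM₀ (N := zpowers g) (fun a ha b hb => by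
    obtain ⟨i, rfl⟩ := mem_zpowers_iff.mp ha
    obtain ⟨j, rfl⟩ := mem_zpowers_iff.mp hb
    exact zpow_mul_comm g i j) (zpowers_le.mpr (mem_centralizer_iff.mpr fun x hx =>
      mem_centralizer_singleton_iff.mp hx.2))
  refine ⟨_, hab, hM₀b.of_card_le (Nat.le_of_dvd Nat.card_pos (card_dvd_of_le le_sup_left)),
    mem_sup_right (mem_zpowers g), fun hle => not_le_of_card h1L hM₀b (by rw [one_mul]) ?_⟩
  exact le_trans (le_inf le_sup_left (inf_le_left.trans (core_le_self H hL hT))) hle

/-- The families are disjoint outside `Z`. -/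
theorem family_disjoint (H : Hyp Z J) (hL : baseBound J ≤ L) {D D' : Subgroup G}
    (hD : D ∈ Cores Z L) (hD' : D' ∈ Cores Z L) {g : G} (hgZ : g ∉ Z)
    (h : g ∈ family Z L D) (h' : g ∈ family Z L D') : D = D' := by
  obtain ⟨T, hT, rfl⟩ := hD
  obtain ⟨T', hT', rfl⟩ := hD'
  obtain ⟨A, hA, hgA, hAc, hcard, hAmax⟩ := H.exists_max hgZ
  have key : ∀ S : Subgroup G, Torus Z L S → g ∈ family Z L (core Z L S) →
      Big Z L A ∧ Shares Z A S := by
    intro S hS hgS
    obtain ⟨M, hM, hMb, hgM, hs⟩ := exists_big_of_family H hL hS hgS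
    refine ⟨hMb.of_card_le (hAmax M hM hgM), ?_⟩
    have h1 := card_le_mul_inf hM hgM hAc hcard
    have h2 := hS.card_le_inf H hM hs
    refine not_le_of_card ((cube_le_baseBound H.one_le).trans hL) hMb ?_
    refine Nat.le_of_mul_le_mul_right (c := Nat.card M) ?_ Nat.card_pos
    calc Nat.card M * Nat.card M
        ≤ J * Nat.card (M ⊓ A : Subgroup G) * (J * J * Nat.card (M ⊓ S : Subgroup G)) :=
          Nat.mul_le_mul h1 h2
      _ = J * J * J * (Nat.card (M ⊓ A : Subgroup G) * Nat.card (M ⊓ S : Subgroup G)) := by ring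
      _ ≤ J * J * J * (Nat.card M * Nat.card (A ⊓ S : Subgroup G)) := by
          refine Nat.mul_le_mul_left _
            ((card_mul_card_le_card_mul_inf inf_le_left inf_le_left).trans ?_)
          exact Nat.mul_le_mul_left _ (Nat.le_of_dvd Nat.card_pos
            (card_dvd_of_le (inf_le_inf inf_le_right inf_le_right)))
      _ = J * J * J * Nat.card (A ⊓ S : Subgroup G) * Nat.card M := by ring
  obtain ⟨hb, hs⟩ := key T hT h
  obtain ⟨-, hs'⟩ := key T' hT' h'
  exact core_eq_of_shares H hL hT hT'
    (shares_of_shares H ((pow_four_le_baseBound H.one_le).trans hL) hA hb hT hT' hs hs')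

/-- Elements with large centralisers lie in a family. -/
theorem exists_family_of_large (H : Hyp Z J) (hL : baseBound J ≤ L) {g : G} (hgZ : g ∉ Z)
    (hbig : smallBound J L * Nat.card Z < Nat.card (centralizer ({g} : Set G))) :
    ∃ D ∈ Cores Z L, g ∈ family Z L D := by
  obtain ⟨A, hA, hgA, hAc, hcard, -⟩ := H.exists_max hgZ
  have hAb : Big Z L A := by
    have h1 : J * (J * J * coreBound J * L * Nat.card Z) < J * Nat.card A :=
      calc J * (J * J * coreBound J * L * Nat.card Z) = smallBound J L * Nat.card Z := by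
            rw [smallBound]; ring
        _ < _ := hbig.trans_le hcard
    refine lt_of_le_of_lt ?_ (Nat.lt_of_mul_lt_mul_left h1)
    exact Nat.mul_le_mul_right _ (Nat.le_mul_of_pos_left _
      (Nat.mul_pos (Nat.mul_pos H.one_le H.one_le) (one_le_coreBound H.one_le)))
  obtain ⟨T, hT, hs⟩ := exists_torus H ((cube_le_baseBound H.one_le).trans hL) hA hAb
  refine ⟨_, ⟨T, hT, rfl⟩, ?_⟩
  set D := core Z L T
  have h1 := hT.card_le_inf H hA hs
  have h2 := card_le_core H ((pow_four_le_baseBound H.one_le).trans hL) hT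
  have h3 : Nat.card A ≤ J * J * coreBound J * Nat.card (A ⊓ D : Subgroup G) := by
    refine Nat.le_of_mul_le_mul_right (c := Nat.card D) ?_ Nat.card_pos
    calc Nat.card A * Nat.card D
        ≤ J * J * Nat.card (A ⊓ T : Subgroup G) * Nat.card D := Nat.mul_le_mul_right _ h1
      _ = J * J * (Nat.card (A ⊓ T : Subgroup G) * Nat.card D) := mul_assoc _ _ _
      _ ≤ J * J * (Nat.card T * Nat.card ((A ⊓ T) ⊓ D : Subgroup G)) :=
          Nat.mul_le_mul_left _
            (card_mul_card_le_card_mul_inf inf_le_right (core_le_self H hL hT))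
      _ ≤ J * J * (coreBound J * Nat.card D * Nat.card (A ⊓ D : Subgroup G)) :=
          Nat.mul_le_mul_left _ (Nat.mul_le_mul h2 (Nat.le_of_dvd Nat.card_pos
            (card_dvd_of_le (inf_le_inf inf_le_left le_rfl))))
      _ = J * J * coreBound J * Nat.card (A ⊓ D : Subgroup G) * Nat.card D := by ring
  have h4 : L * Nat.card Z < Nat.card (A ⊓ D : Subgroup G) := by
    refine Nat.lt_of_mul_lt_mul_left (a := J * (J * J * coreBound J)) ?_
    calc J * (J * J * coreBound J) * (L * Nat.card Z) = smallBound J L * Nat.card Z := by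
          rw [smallBound]; ring
      _ < Nat.card (centralizer ({g} : Set G)) := hbig
      _ ≤ J * (J * J * coreBound J * Nat.card (A ⊓ D : Subgroup G)) :=
          hcard.trans (Nat.mul_le_mul_left _ h3)
      _ = _ := (mul_assoc _ _ _).symm
  have hAD : ¬ A ⊓ D ≤ Z := not_le_of_card ((one_le_baseBound H.one_le).trans hL)
    (M := A ⊓ D) h4 (by rw [one_mul])
  obtain ⟨x, ⟨hxA, hxD⟩, hxZ⟩ := SetLike.not_le_iff_exists.mp hAD
  refine ⟨?_, Or.inr (h4.trans_le (Nat.le_of_dvd Nat.card_pos
    (card_dvd_of_le (le_inf inf_le_right (inf_le_left.trans hAc)))))⟩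
  have he := H.conj_mem_iff g
  have hfix : D.map (MulAut.conj g).toMonoidHom = D := by
    rw [map_core (MulAut.conj g) he]
    refine (core_eq_of_shares H hL (torus_map _ he hT) hT fun hle => hxZ (hle ⟨?_, ?_⟩))
    · refine ⟨x, core_le_self H hL hT hxD, ?_⟩
      change g * x * g⁻¹ = x
      rw [hA.2 g hgA x hxA, mul_inv_cancel_right]
    · exact core_le_self H hL hT hxD
  rw [mem_normalizer_iff]
  intro y
  constructor
  · intro hy; rw [← hfix]; exact ⟨y, hy, rfl⟩
  · intro hy
    rw [← hfix] at hy
    obtain ⟨y', hy', hyy⟩ := hy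
    have : y' = y := (MulAut.conj g).injective hyy
    rwa [← this]

/-! ### The class equation -/

/-- `|G|` divides `Q` times the number of small elements. -/
theorem dvd_card_small (H : Hyp Z J) (S : Set G) (_hSZ : ∀ g ∈ S, g ∉ Z)
    (hinv : ∀ g ∈ S, ∀ x : G, ∀ z ∈ Z, x * g * x⁻¹ * z ∈ S) {K Q : ℕ}
    (hsmall : ∀ g ∈ S, Nat.card (centralizer ({g} : Set G)) ≤ K * Nat.card Z)
    (hQ : ∀ r, 0 < r → r ≤ J * K → r ∣ Q) : Nat.card G ∣ Q * Nat.card S := by
  classical
  have := Fintype.ofFinite G
  letI : MulAction (G × Z) G :=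
    { smul := fun p g => p.1 * g * p.1⁻¹ * p.2
      one_smul := fun g => by
        change (1 : G) * g * (1 : G)⁻¹ * ((1 : Z) : G) = g
        simp
      mul_smul := fun p q g => by
        change p.1 * q.1 * g * (p.1 * q.1)⁻¹ * ((p.2 : G) * q.2) =
          p.1 * (q.1 * g * q.1⁻¹ * q.2) * p.1⁻¹ * p.2
        have hc : (q.2 : G) * p.1⁻¹ = p.1⁻¹ * q.2 :=
          (mem_center_iff.mp (H.le_center q.2.2) _).symm
        have hc2 : (q.2 : G) * p.2 = p.2 * q.2 := (mem_center_iff.mp (H.le_center q.2.2) _).symm
        calc p.1 * q.1 * g * (p.1 * q.1)⁻¹ * ((p.2 : G) * q.2)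
            = p.1 * (q.1 * g * q.1⁻¹) * p.1⁻¹ * ((p.2 : G) * q.2) := by simp [mul_assoc]
          _ = p.1 * (q.1 * g * q.1⁻¹) * (p.1⁻¹ * q.2) * p.2 := by
              rw [← hc2]; simp only [mul_assoc]
          _ = p.1 * (q.1 * g * q.1⁻¹ * q.2) * p.1⁻¹ * p.2 := by
              rw [← hc]; simp only [mul_assoc] }
  have hsmul : ∀ (p : G × Z) (g : G), p • g = p.1 * g * p.1⁻¹ * p.2 := fun _ _ => rfl
  have hiff : ∀ (p : G × Z) (g : G), p • g ∈ S ↔ g ∈ S := by
    have key : ∀ (p : G × Z) (g : G), g ∈ S → p • g ∈ S := fun p g hg => by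
      rw [hsmul]; exact hinv g hg _ _ p.2.2
    exact fun p g => ⟨fun h => by simpa using key p⁻¹ _ h, key p g⟩
  have hsum : ∑ g : G, (if g ∈ S then Q else 0) = Q * Nat.card S := by
    rw [← Finset.sum_filter, Finset.sum_const, smul_eq_mul, mul_comm, Nat.card_eq_fintype_card,
      ← Set.toFinset_card]
    congr 2
    ext; simp
  rw [← hsum]
  refine dvd_sum_of_orbits (H := G × Z) _ _ (fun p g => by simp [hiff]) fun g => ?_
  by_cases hg : g ∈ S
  swap
  · simp [hg]
  rw [if_pos hg]
  set W : Subgroup G := (MulAction.stabilizer (G × Z) g).map (MonoidHom.fst G Z) with hW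
  have hcardW : Nat.card W = Nat.card (MulAction.stabilizer (G × Z) g) := by
    refine (Nat.card_congr (Equiv.ofBijective
      (fun p => (⟨p.1.1, mem_map_of_mem _ p.2⟩ : W)) ⟨?_, ?_⟩)).symm
    · intro p p' h
      have h1 : p.1.1 = p'.1.1 := congrArg Subtype.val h
      have hp : p.1 • g = g := p.2
      have hp' : p'.1 • g = g := p'.2
      rw [hsmul] at hp hp'
      rw [h1] at hp
      exact Subtype.ext (Prod.ext h1 (Subtype.ext (mul_left_cancel (hp.trans hp'.symm))))
    · rintro ⟨_, p, hp, rfl⟩
      exact ⟨⟨p, hp⟩, rfl⟩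
  have hZW : Z ≤ W := fun z hz => by
    refine ⟨(z, 1), ?_, rfl⟩
    change (z, (1 : Z)) • g = g
    rw [hsmul]
    change z * g * z⁻¹ * ((1 : Z) : G) = g
    rw [OneMemClass.coe_one, mul_one, ← mem_center_iff.mp (H.le_center hz) g, mul_inv_cancel_right]
  have hab := H.ab_zpowers g
  have hWN : W ≤ normalizer ((Z ⊔ zpowers g : Subgroup G) : Set G) := by
    rintro _ ⟨p, hp, rfl⟩
    have hp' : p.1 * g * p.1⁻¹ * p.2 = g := hp
    have hpg : p.1 * g * p.1⁻¹ = g * (p.2 : G)⁻¹ := by
      rw [eq_mul_inv_iff_mul_eq]; exact hp'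
    have hin : (Z ⊔ zpowers g).map (MulAut.conj p.1).toMonoidHom ≤ Z ⊔ zpowers g := by
      rw [map_le_iff_le_comap, sup_le_iff, zpowers_le]
      refine ⟨fun z hz => mem_comap.mpr (mem_sup_left ((H.conj_mem_iff _ _).mpr hz)), ?_⟩
      change p.1 * g * p.1⁻¹ ∈ Z ⊔ zpowers g
      rw [hpg]
      exact mul_mem (mem_sup_right (mem_zpowers g)) (mem_sup_left (inv_mem p.2.2))
    have heq := eq_of_le_of_card_ge hin (card_map_of_injective (MulEquiv.injective _)).ge
    rw [mem_normalizer_iff]
    intro y
    constructor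
    · exact fun hy => hin ⟨y, hy, rfl⟩
    · intro hy
      rw [← heq] at hy
      obtain ⟨y', hy', hyy⟩ := hy
      have : y' = y := (MulAut.conj p.1).injective hyy
      rwa [← this]
  obtain ⟨r, hr⟩ := card_dvd_of_le hZW
  have hr0 : 0 < r := Nat.pos_of_ne_zero fun h0 => by
    rw [h0, mul_zero] at hr
    exact Nat.card_pos.ne' hr
  have hrK : r ≤ J * K := by
    refine Nat.le_of_mul_le_mul_left (c := Nat.card Z) ?_ Nat.card_pos
    calc Nat.card Z * r = Nat.card W := hr.symm
      _ ≤ Nat.card (normalizer ((Z ⊔ zpowers g : Subgroup G) : Set G)) :=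
          Nat.le_of_dvd Nat.card_pos (card_dvd_of_le hWN)
      _ ≤ J * Nat.card (centralizer ((Z ⊔ zpowers g : Subgroup G) : Set G)) := H.norm _ hab.2
      _ ≤ J * (K * Nat.card Z) := Nat.mul_le_mul_left _ ((Nat.le_of_dvd Nat.card_pos
          (card_dvd_of_le (centralizer_le (Set.singleton_subset_iff.mpr
            (mem_sup_right (mem_zpowers g)))))).trans (hsmall g hg))
      _ = Nat.card Z * (J * K) := by ring
  obtain ⟨c, hc⟩ := hQ r hr0 hrK
  have horb : Nat.card (MulAction.orbit (G × Z) g) * r = Nat.card G := by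
    have h1 := Nat.card_congr (MulAction.orbitProdStabilizerEquivGroup (G × Z) g)
    rw [Nat.card_prod, ← hcardW, hr, Nat.card_prod] at h1
    refine Nat.eq_of_mul_eq_mul_right (m := Nat.card Z) Nat.card_pos ?_
    rw [← h1]; ring
  exact ⟨c, by rw [← horb, hc]; ring⟩

/-- The class equation, as a divisibility. -/
theorem class_equation (H : Hyp Z J) (hL : baseBound J ≤ L) [Fintype (Cores Z L)] :
    ∃ X : ℕ, Nat.card G ∣ multiplier J L * X ∧
      Nat.card G + Fintype.card (Cores Z L) * Nat.card Z = Nat.card Z + X ∧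
      ∑ D : Cores Z L, Nat.card D.1 ≤ 2 * Nat.card G := by
  classical
  have := Fintype.ofFinite G
  let S : Set G := {g | g ∉ Z ∧ ∀ D ∈ Cores Z L, g ∉ family Z L D}
  have hQdvd : ∀ r, 0 < r → r ≤ J * smallBound J L → r ∣ multiplier J L := fun r h0 h1 =>
    dvd_mul_of_dvd_left (Nat.dvd_factorial h0 h1) _
  have hS : Nat.card G ∣ multiplier J L * Nat.card S := by
    refine dvd_card_small H S (fun g hg => hg.1) ?_ (fun g hg => ?_) hQdvd
    · rintro g ⟨hgZ, hgF⟩ x z hz
      have hout : x * g * x⁻¹ * z ∉ Z := fun h => hgZ ((H.conj_mem_iff x g).mp (by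
        have := mul_mem h (inv_mem hz)
        rwa [mul_inv_cancel_right] at this))
      refine ⟨hout, fun D hD hmem => ?_⟩
      -- pull the family back
      have hzD : z ∈ D := by
        obtain ⟨T, hT, rfl⟩ := hD
        exact (core_ab H hL hT).1 hz
      obtain ⟨hn, hcase⟩ := hmem
      have hzc : z ∈ center G := H.le_center hz
      have hmem' : x * g * x⁻¹ ∈ family Z L D := by
        refine ⟨?_, ?_⟩
        · have := mul_mem hn (inv_mem (le_normalizer (H := D) hzD))
          rwa [mul_inv_cancel_right] at this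
        rcases hcase with h | h
        · refine Or.inl ?_
          have := mul_mem h (inv_mem hzD)
          rwa [mul_inv_cancel_right] at this
        · refine Or.inr (h.trans_le (Nat.le_of_dvd Nat.card_pos (card_dvd_of_le ?_)))
          rintro y ⟨hy1, hy2⟩
          refine ⟨hy1, mem_centralizer_singleton_iff.mpr ?_⟩
          have hy := mem_centralizer_singleton_iff.mp hy2
          refine mul_right_cancel (b := z) ?_
          calc y * (x * g * x⁻¹) * z = y * (x * g * x⁻¹ * z) := mul_assoc _ _ _
            _ = x * g * x⁻¹ * z * y := hy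
            _ = x * g * x⁻¹ * (z * y) := mul_assoc _ _ _
            _ = x * g * x⁻¹ * (y * z) := by rw [(mem_center_iff.mp hzc y)]
            _ = x * g * x⁻¹ * y * z := (mul_assoc _ _ _).symm
      have := family_map_subset (MulAut.conj x⁻¹) hmem'
      have e1 : MulAut.conj x⁻¹ (x * g * x⁻¹) = g := by simp [mul_assoc]
      rw [e1] at this
      exact hgF _ (cores_map _ (H.conj_mem_iff _) hD) this
    · by_contra hbig
      obtain ⟨D, hD, hgD⟩ := exists_family_of_large H hL hg.1 (not_le.mp hbig)
      exact hg.2 D hD hgD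
  -- the families
  letI : MulAction G (Subgroup G) :=
    { smul := fun g D => D.map (MulAut.conj g).toMonoidHom
      one_smul := fun D => by
        change D.map (MulAut.conj (1 : G)).toMonoidHom = D
        ext; simp
      mul_smul := fun g h D => by
        change D.map (MulAut.conj (g * h)).toMonoidHom =
          (D.map (MulAut.conj h).toMonoidHom).map (MulAut.conj g).toMonoidHom
        rw [Subgroup.map_map, map_mul]; rfl }
  have := Fintype.ofFinite (Subgroup G)
  have hcores : ∀ (g : G) (D : Subgroup G), g • D ∈ Cores Z L ↔ D ∈ Cores Z L := by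
    have key : ∀ (g : G) (D : Subgroup G), D ∈ Cores Z L → g • D ∈ Cores Z L :=
      fun g D h => cores_map (MulAut.conj g) (H.conj_mem_iff g) h
    exact fun g D => ⟨fun h => by simpa using key g⁻¹ _ h, key g D⟩
  let wt : Subgroup G → ℕ := fun D =>
    if D ∈ Cores Z L then multiplier J L * Nat.card (family Z L D) else 0
  have hwt : Nat.card G ∣ ∑ D, wt D := by
    refine dvd_sum_of_orbits (H := G) wt _ (fun g D => ?_) fun D => ?_
    · have hfam : Nat.card (family Z L (g • D)) = Nat.card (family Z L D) :=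
        card_family_map g D
      simp only [wt, hcores, hfam]
    by_cases hD : D ∈ Cores Z L
    swap
    · simp [wt, hD]
    simp only [wt, if_pos hD]
    obtain ⟨T, hT, rfl⟩ := hD
    set D := core Z L T
    obtain ⟨k, hk⟩ := card_family_eq (Z := Z) (L := L) (core_ab H hL hT).2
    have hstab : Nat.card (MulAction.stabilizer G D) = Nat.card (normalizer (D : Set G)) := by
      have heq : MulAction.stabilizer G D = normalizer (D : Set G) := by
        ext g
        rw [MulAction.mem_stabilizer_iff, mem_normalizer_iff]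
        change D.map (MulAut.conj g).toMonoidHom = D ↔ _
        constructor
        · intro h y
          have := mem_map_iff_mem (f := (MulAut.conj g).toMonoidHom) (K := D) (x := y)
            (MulEquiv.injective _)
          rw [h] at this
          exact this.symm
        · intro h
          refine eq_of_le_of_card_ge ?_ (card_map_of_injective (MulEquiv.injective _)).ge
          rintro _ ⟨y, hy, rfl⟩
          exact (h y).mp hy
      rw [heq]
    obtain ⟨b, hb⟩ := card_dvd_of_le (le_normalizer (H := D))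
    have hb0 : 0 < b := Nat.pos_of_ne_zero fun h0 => by
      rw [h0, mul_zero] at hb
      exact Nat.card_pos.ne' hb
    have hbB : b ≤ normBound J := by
      refine Nat.le_of_mul_le_mul_left (c := Nat.card D) ?_ Nat.card_pos
      rw [← hb, mul_comm (Nat.card D)]
      exact card_normalizer_core H hL hT
    obtain ⟨c, hc⟩ : b ∣ multiplier J L := dvd_mul_of_dvd_right (Nat.dvd_factorial hb0 hbB) _
    have horb : Nat.card (MulAction.orbit G D) * (Nat.card D * b) = Nat.card G := by
      have h1 := Nat.card_congr (MulAction.orbitProdStabilizerEquivGroup G D)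
      rwa [Nat.card_prod, hstab, hb] at h1
    exact ⟨c * k, by rw [hk, hc, ← horb]; ring⟩
  have hwsum : ∑ D, wt D = multiplier J L * ∑ D : Cores Z L, Nat.card (family Z L D.1) := by
    simp only [wt]
    rw [← Finset.sum_filter, Finset.mul_sum]
    exact Finset.sum_subtype _ (by simp)
      (fun D => multiplier J L * Nat.card (family Z L D))
  refine ⟨Nat.card S + ∑ D : Cores Z L, Nat.card (family Z L D.1), ?_, ?_, ?_⟩
  · rw [mul_add]
    exact dvd_add hS (hwsum ▸ hwt)
  · have hZfam : ∀ D : Cores Z L, ∀ g ∈ Z, g ∈ family Z L D.1 := by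
      rintro ⟨D, T, hT, rfl⟩ g hg
      exact le_normalizer_family ((core_ab H hL hT).1 hg)
    letI hdS : DecidablePred fun g : G => g ∈ S := fun _ => Classical.propDecidable _
    have key : ∀ g : G, (if g ∈ Z then 1 else 0) + (@ite ℕ (g ∈ S) (hdS g) 1 0) +
        ∑ D : Cores Z L, (if g ∈ family Z L D.1 then 1 else 0) =
        1 + (if g ∈ Z then Fintype.card (Cores Z L) else 0) := by
      intro g
      by_cases hgZ : g ∈ Z
      · have hgS : g ∉ S := fun h => h.1 hgZ
        simp [hgZ, hgS, fun D => hZfam D g hgZ]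
      by_cases hgS : g ∈ S
      · have : ∀ D : Cores Z L, g ∉ family Z L D.1 := fun D => hgS.2 D.1 D.2
        simp [hgZ, hgS, this]
      have hgS' : ∃ D ∈ Cores Z L, g ∈ family Z L D := by
        by_contra h
        push Not at h
        exact hgS ⟨hgZ, h⟩
      obtain ⟨D, hD, hgD⟩ := hgS'
      have hsum : ∑ D' : Cores Z L, (if g ∈ family Z L D'.1 then 1 else 0) = 1 := by
        rw [Finset.sum_eq_single (⟨D, hD⟩ : Cores Z L) (fun D' _ hne => if_neg fun h =>
          hne (Subtype.ext (family_disjoint H hL D'.2 hD hgZ h hgD))) (fun h =>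
          absurd (Finset.mem_univ _) h), if_pos hgD]
      simp [hgZ, hgS, hsum]
    have hfc : ∀ (P : Set G), (Finset.univ.filter fun g : G => g ∈ P).card = Nat.card P :=
      fun P => by rw [Nat.card_eq_fintype_card, Fintype.card_subtype]
    have htot := Finset.sum_congr (s₁ := (Finset.univ : Finset G)) rfl (fun g _ => key g)
    rw [Finset.sum_add_distrib, Finset.sum_add_distrib, Finset.sum_add_distrib,
      Finset.sum_comm] at htot
    simp only [← Finset.sum_filter, Finset.sum_const, smul_eq_mul, mul_one, Finset.card_univ,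
      hfc] at htot
    have hZcard : ∀ [DecidablePred fun g : G => g ∈ Z],
        (Finset.univ.filter fun g : G => g ∈ Z).card = Nat.card Z := by
      intro _
      rw [Nat.card_eq_fintype_card, Fintype.card_subtype]
    simp only [hZcard] at htot
    rw [Nat.card_eq_fintype_card (α := G), mul_comm (Fintype.card (Cores Z L))]
    omega
  · -- the families are large
    have hpt : ∀ D : Cores Z L,
        Nat.card D.1 ≤ 2 * Nat.card ↥(family Z L D.1 \ (Z : Set G)) := by
      rintro ⟨D, T, hT, rfl⟩
      have hZD := (core_ab H hL hT).1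
      obtain ⟨b, hb⟩ := card_dvd_of_le hZD
      have hb2 : 2 ≤ b := by
        by_contra hlt
        refine core_not_le H hL hT ?_
        refine (eq_of_le_of_card_ge hZD ?_).ge
        rw [hb]
        exact (Nat.mul_le_mul_left _ (by omega : b ≤ 1)).trans (mul_one _).le
      have h1 : Nat.card ↥((core Z L T : Set G) \ (Z : Set G)) ≤
          Nat.card ↥(family Z L (core Z L T) \ (Z : Set G)) :=
        Nat.card_mono (Set.toFinite _) (Set.sdiff_subset_sdiff_left le_normalizer_family)
      have h2 : Nat.card ↥((core Z L T : Set G) \ (Z : Set G)) + Nat.card Z =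
          Nat.card (core Z L T) := by
        rw [Nat.card_coe_set_eq]
        have := Set.ncard_sdiff_add_ncard_of_subset (s := (Z : Set G))
          (t := (core Z L T : Set G)) hZD
        rw [← Nat.card_coe_set_eq, ← Nat.card_coe_set_eq] at this
        rw [← Nat.card_coe_set_eq]
        exact this
      have h3 : 2 * Nat.card Z ≤ Nat.card (core Z L T) := by
        rw [hb, mul_comm]
        exact Nat.mul_le_mul_left _ hb2
      change Nat.card (core Z L T) ≤ 2 * Nat.card ↥(family Z L (core Z L T) \ (Z : Set G))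
      omega
    calc ∑ D : Cores Z L, Nat.card D.1
        ≤ ∑ D : Cores Z L, 2 * Nat.card ↥(family Z L D.1 \ (Z : Set G)) :=
          Finset.sum_le_sum fun D _ => hpt D
      _ = 2 * ∑ D : Cores Z L, Nat.card ↥(family Z L D.1 \ (Z : Set G)) :=
          (Finset.mul_sum _ _ _).symm
      _ ≤ 2 * Nat.card G := by
          refine Nat.mul_le_mul_left _ ?_
          rw [← Nat.card_sigma]
          refine Nat.card_le_card_of_injective (fun p => (p.2 : G)) ?_
          rintro ⟨D, g, hg⟩ ⟨D', g', hg'⟩ (rfl : g = g')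
          obtain rfl : D = D' := Subtype.ext (family_disjoint H hL D.2 D'.2 hg.2 hg.1 hg'.1)
          rfl

/-- The bound after `k` more steps. -/
def abelBound (J : ℕ) : ℕ → ℕ → ℕ
  | 0, L => max (multiplier J L) (normBound J)
  | k + 1, L => max (max (multiplier J L) (normBound J)) (abelBound J k (nextBound J L))

theorem le_abelBound (J : ℕ) : ∀ k L, max (multiplier J L) (normBound J) ≤ abelBound J k L
  | 0, _ => le_rfl
  | _ + 1, _ => le_max_left _ _

/-- Induction on the total size of the cores. -/
theorem exists_abelian_of_weight (H : Hyp Z J) : ∀ (k L : ℕ), baseBound J ≤ L →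
    normBound J * (∑ᶠ D ∈ Cores Z L, Nat.card (D : Subgroup G)) ≤ k * Nat.card G →
    ∃ A : Subgroup G, (∀ a ∈ A, ∀ b ∈ A, a * b = b * a) ∧
      Nat.card G ≤ abelBound J k L * Nat.card A := by
  intro k
  induction k using Nat.strong_induction_on with
  | _ k ih =>
  intro L hL hw
  classical
  have : Fintype (Cores Z L) := Fintype.ofFinite _
  obtain ⟨X, hX, heq, hsum⟩ := class_equation H hL
  set Q := multiplier J L with hQ
  set n := Fintype.card (Cores Z L) with hn
  have hQpos : 0 < Q := Nat.mul_pos (Nat.factorial_pos _) (Nat.factorial_pos _)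
  have hZab : ∀ a ∈ Z, ∀ b ∈ Z, a * b = b * a := fun a ha b _ =>
    (mem_center_iff.mp (H.le_center ha) b).symm
  rcases Nat.eq_zero_or_pos n with h0 | h0
  · refine ⟨Z, hZab, ?_⟩
    have h1 : Nat.card G ∣ Q * Nat.card Z := by
      refine (Nat.dvd_add_left hX).mp ?_
      rw [← mul_add, ← heq, h0, zero_mul, add_zero]
      exact dvd_mul_left _ _
    exact (Nat.le_of_dvd (Nat.mul_pos hQpos Nat.card_pos) h1).trans
      (Nat.mul_le_mul_right _ ((le_max_left _ _).trans (le_abelBound J k L)))
  rcases Nat.lt_or_ge n 2 with h1 | h2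
  · obtain ⟨⟨D, hD⟩⟩ := (Fintype.card_pos_iff (α := Cores Z L)).mp h0
    have huniq : ∀ D' ∈ Cores Z L, D' = D := fun D' hD' => congrArg Subtype.val
      (Fintype.card_le_one_iff.mp (Nat.lt_succ_iff.mp h1) (⟨D', hD'⟩ : Cores Z L) ⟨D, hD⟩)
    obtain ⟨T, hT, rfl⟩ := hD
    refine ⟨_, (core_ab H hL hT).2, ?_⟩
    have htop : normalizer (core Z L T : Set G) = ⊤ := by
      rw [eq_top_iff]
      intro g _
      rw [mem_normalizer_iff]
      have heq := huniq _ (cores_map (MulAut.conj g) (H.conj_mem_iff g) ⟨T, hT, rfl⟩)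
      intro y
      have := mem_map_iff_mem (f := (MulAut.conj g).toMonoidHom) (K := core Z L T) (x := y)
        (MulEquiv.injective _)
      rw [heq] at this
      exact this.symm
    have hle := card_normalizer_core H hL hT
    rw [htop, card_top] at hle
    exact hle.trans (Nat.mul_le_mul_right _ ((le_max_right _ _).trans (le_abelBound J k L)))
  -- some core is small
  have hG : Nat.card G ≤ Q * (n - 1) * Nat.card Z := by
    refine Nat.le_of_dvd (Nat.mul_pos (Nat.mul_pos hQpos (by omega)) Nat.card_pos) ?_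
    have e : X = Nat.card G + (n - 1) * Nat.card Z := by
      obtain ⟨j, hj⟩ : ∃ j, n = j + 1 := ⟨n - 1, by omega⟩
      rw [hj, Nat.succ_mul] at heq
      rw [hj, Nat.add_sub_cancel]
      omega
    rw [e, mul_add, ← mul_assoc] at hX
    exact (Nat.dvd_add_right (dvd_mul_left _ _)).mp hX
  obtain ⟨⟨D₀, hD₀⟩, hsmall⟩ : ∃ D : Cores Z L, Nat.card D.1 < 2 * Q * Nat.card Z := by
    by_contra hall
    push Not at hall
    have h3 : n * (2 * Q * Nat.card Z) ≤ 2 * Nat.card G :=
      le_trans (by
        have := Finset.card_nsmul_le_sum (Finset.univ : Finset (Cores Z L))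
          (fun D => Nat.card D.1) _ (fun D _ => hall D)
        rwa [Finset.card_univ, smul_eq_mul] at this) hsum
    obtain ⟨j, hj⟩ : ∃ j, n = j + 1 := ⟨n - 1, by omega⟩
    rw [hj, Nat.add_sub_cancel] at hG
    rw [hj] at h3
    have hpos := Nat.mul_pos hQpos (Nat.card_pos (α := Z))
    nlinarith
  obtain ⟨T₀, hT₀, rfl⟩ := hD₀
  set L' := nextBound J L with hL'def
  have hLL' : L ≤ L' := Nat.le_add_left _ _
  have hsmallT : Nat.card T₀ < L' * Nat.card Z := by
    have h4 := card_le_core H ((pow_four_le_baseBound H.one_le).trans hL) hT₀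
    calc Nat.card T₀ ≤ coreBound J * Nat.card (core Z L T₀) := h4
      _ < coreBound J * (2 * Q * Nat.card Z) :=
          Nat.mul_lt_mul_of_pos_left hsmall (one_le_coreBound H.one_le)
      _ ≤ L' * Nat.card Z := by
          rw [hL'def, nextBound, ← hQ]
          calc coreBound J * (2 * Q * Nat.card Z) = 2 * Q * coreBound J * Nat.card Z := by ring
            _ ≤ _ := Nat.mul_le_mul_right _ (Nat.le_add_right _ _)
  have htor : ∀ T, Torus Z L' T → Torus Z L T := by
    rintro T ⟨hab, hb, hmax⟩
    refine ⟨hab, lt_of_le_of_lt (Nat.mul_le_mul_right _ hLL') hb, fun M hM _ hs => ?_⟩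
    by_contra hlt
    exact absurd (hmax M hM (hb.of_card_le (le_of_lt (not_le.mp hlt))) hs) hlt
  have hcore : ∀ T, Torus Z L' T → core Z L' T = core Z L T := by
    intro T hT
    refine le_antisymm (le_core fun S hS hs => core_le ?_ hs)
      (le_core fun S hS hs => core_le (htor S hS) hs)
    have heqc := (htor T hT).card_eq hS hs
    refine ⟨hS.1, hT.2.1.of_card_le heqc.le, fun M hM hMb hsM => ?_⟩
    exact hS.2.2 M hM (lt_of_le_of_lt (Nat.mul_le_mul_right _ hLL') hMb) hsM
  set D₀ := core Z L T₀ with hD₀def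
  let O : Finset (Subgroup G) := by
    letI := Fintype.ofFinite G
    exact Finset.univ.image fun g : G => D₀.map (MulAut.conj g).toMonoidHom
  have hOcores : ∀ D ∈ O, D ∈ Cores Z L := by
    intro D hD
    simp only [O, Finset.mem_image] at hD
    obtain ⟨g, -, rfl⟩ := hD
    exact cores_map _ (H.conj_mem_iff g) ⟨T₀, hT₀, rfl⟩
  have hdisj : ∀ D ∈ Cores Z L', D ∈ Cores Z L ∧ D ∉ O := by
    rintro D ⟨T, hT, rfl⟩
    refine ⟨⟨T, htor T hT, (hcore T hT).symm⟩, fun hO => ?_⟩
    simp only [O, Finset.mem_image] at hO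
    obtain ⟨g, -, hg⟩ := hO
    have he := H.conj_mem_iff g
    have hT1 := torus_map (L := L) (MulAut.conj g) he hT₀
    rw [hD₀def, map_core (MulAut.conj g) he, hcore T hT] at hg
    have hs : Shares Z T (T₀.map (MulAut.conj g).toMonoidHom) := fun hle =>
      core_not_le H hL (htor T hT) (le_trans (le_inf (core_le_self H hL (htor T hT))
        (hg ▸ core_le_self H hL hT1)) hle)
    have hcard := (htor T hT).card_eq hT1 hs
    rw [card_map_equiv (Z := Z) (MulAut.conj g) he] at hcard
    exact absurd hT.2.1 (not_lt.mpr (hcard.le.trans hsmallT.le))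
  have hOsum : Nat.card G ≤ normBound J * ∑ D ∈ O, Nat.card D := by
    have hall : ∀ D ∈ O, Nat.card D = Nat.card D₀ := by
      intro D hD
      simp only [O, Finset.mem_image] at hD
      obtain ⟨g, -, rfl⟩ := hD
      exact card_map_of_injective (MulEquiv.injective _)
    rw [Finset.sum_congr rfl hall, Finset.sum_const, smul_eq_mul]
    have hidx : (normalizer (D₀ : Set G)).index ≤ O.card := by
      rw [index_eq_card, ← Nat.card_eq_finsetCard O]
      exact Nat.card_le_card_of_injective
        (fun q : G ⧸ normalizer (D₀ : Set G) =>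
          (⟨D₀.map (MulAut.conj q.out).toMonoidHom, by simp [O]⟩ : {D // D ∈ O}))
        (fun q q' h => by
          have h1 : D₀.map (MulAut.conj q.out).toMonoidHom =
              D₀.map (MulAut.conj q'.out).toMonoidHom := congrArg Subtype.val h
          rw [← QuotientGroup.out_eq' q, ← QuotientGroup.out_eq' q']
          refine QuotientGroup.eq.mpr (mem_normalizer_iff.mpr fun y => ?_)
          have h2 := SetLike.ext_iff.mp h1 (q'.out * y * q'.out⁻¹)
          simp only [mem_map, MulEquiv.coe_toMonoidHom, MulAut.conj_apply] at h2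
          constructor
          · intro hy
            obtain ⟨y', hy', he'⟩ := h2.mpr ⟨y, hy, rfl⟩
            convert hy' using 1
            have e2 : y' = q.out⁻¹ * (q.out * y' * q.out⁻¹) * q.out := by simp [mul_assoc]
            rw [e2, he']
            simp [mul_assoc]
          · intro hy
            obtain ⟨y', hy', he'⟩ := h2.mp ⟨_, hy, by simp [mul_assoc]⟩
            have : y' = y := (MulAut.conj q'.out).injective he'
            rwa [← this])
    calc Nat.card G
        = Nat.card (normalizer (D₀ : Set G)) * (normalizer (D₀ : Set G)).index :=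
          (card_mul_index _).symm
      _ ≤ normBound J * Nat.card D₀ * O.card :=
          Nat.mul_le_mul (card_normalizer_core H hL hT₀) hidx
      _ = normBound J * (O.card * Nat.card D₀) := by ring
  have := Fintype.ofFinite (Subgroup G)
  have hwsum : ∀ M : ℕ, (∑ᶠ D ∈ Cores Z M, Nat.card (D : Subgroup G)) =
      ∑ D ∈ (Finset.univ.filter fun D => D ∈ Cores Z M), Nat.card D := fun M =>
    finsum_mem_eq_sum_of_inter_support_eq _ (by ext; simp)
  rw [hwsum] at hw
  have hsplit : (∑ D ∈ (Finset.univ.filter fun D => D ∈ Cores Z L'), Nat.card D) +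
      ∑ D ∈ O, Nat.card D ≤ ∑ D ∈ (Finset.univ.filter fun D => D ∈ Cores Z L), Nat.card D := by
    rw [← Finset.sum_union (Finset.disjoint_left.mpr fun D hD =>
      (hdisj D (Finset.mem_filter.mp hD).2).2)]
    refine Finset.sum_le_sum_of_subset fun D hD => Finset.mem_filter.mpr ⟨Finset.mem_univ _, ?_⟩
    rcases Finset.mem_union.mp hD with h | h
    · exact (hdisj D (Finset.mem_filter.mp h).2).1
    · exact hOcores D h
  have hkey := Nat.mul_le_mul_left (normBound J) hsplit
  rw [mul_add] at hkey
  obtain ⟨k', rfl⟩ : ∃ k', k = k' + 1 := by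
    refine ⟨k - 1, ?_⟩
    rcases Nat.eq_zero_or_pos k with rfl | hk
    · have := Nat.card_pos (α := G)
      omega
    · omega
  rw [Nat.succ_mul] at hw
  obtain ⟨A, hA, hcA⟩ := ih k' (Nat.lt_succ_self _) L' (hL.trans hLL') (by rw [hwsum]; omega)
  exact ⟨A, hA, hcA.trans (Nat.mul_le_mul_right _ (le_max_right _ _))⟩

/-- The final bound. -/
def jordanBound (J : ℕ) : ℕ := abelBound J (2 * normBound J) (baseBound J)

/-- Jordan's argument: an abelian subgroup of bounded index. -/
theorem exists_abelian (H : Hyp Z J) : ∃ A : Subgroup G, (∀ a ∈ A, ∀ b ∈ A, a * b = b * a) ∧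
    Nat.card G ≤ jordanBound J * Nat.card A := by
  classical
  have : Fintype (Cores Z (baseBound J)) := Fintype.ofFinite _
  obtain ⟨X, -, -, hsum⟩ := class_equation H (L := baseBound J) le_rfl
  refine exists_abelian_of_weight H _ _ le_rfl ?_
  rw [mul_assoc, mul_left_comm 2]
  refine Nat.mul_le_mul_left _ (le_trans (le_of_eq ?_) hsum)
  rw [finsum_mem_eq_toFinset_sum, Finset.sum_set_coe (f := fun D : Subgroup G => Nat.card D)]

end Cfsg.Agent.JordanP
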