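import Cfsg.Agent.JordanP.Count

/-!
Linear groups in characteristic `p` with a bounded Sylow `p`-subgroup satisfy the hypotheses of
Jordan's argument, hence are abelian-by-bounded.
-/

set_option autoImplicit false
set_option linter.unusedSectionVars false
set_option linter.style.haveILetI false
set_option linter.deprecated false

open Subgroup Module

namespace Cfsg.Agent.JordanP

universe u v

/-- Monotonicity of a power bound. -/
theorem pow_le_pow_of_le_succ {a b A B : ℕ} (ha : a ≤ A) (hb : b ≤ B) : a ^ b ≤ (A + 1) ^ B :=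
  (Nat.pow_le_pow_left (Nat.le_succ_of_le ha) b).trans (Nat.pow_le_pow_right (Nat.succ_pos A) hb)

/-- Bounding a subgroup through a map whose fibres lie in cosets of `C`. -/
theorem card_le_of_fibres {G : Type u} [Group G] [Finite G] {N C : Subgroup G} {Y : Type*}
    [Finite Y] (f : N → Y) (h : ∀ x y : N, f x = f y → (x : G)⁻¹ * y ∈ C) :
    Nat.card N ≤ Nat.card C * Nat.card Y := by
  classical
  rw [← Nat.card_prod]
  refine Nat.card_le_card_of_injective
    (fun x => ((⟨((Function.invFun f (f x) : N) : G)⁻¹ * x,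
      h _ _ (Function.invFun_eq ⟨x, rfl⟩)⟩ : C), f x)) ?_
  intro x y hxy
  obtain ⟨h1, h2⟩ := Prod.ext_iff.mp hxy
  dsimp only at h2
  have h1' := congrArg Subtype.val h1
  dsimp only at h1'
  rw [h2] at h1'
  exact Subtype.ext (mul_left_cancel h1')

variable {p : ℕ} [hp : Fact p.Prime]

/-- A `p`-subgroup has order at most `p ^ m`. -/
theorem card_le_of_isPGroup {G : Type u} [Group G] [Finite G] {m : ℕ}
    (hm : (Nat.card G).factorization p ≤ m) {K : Subgroup G} (hK : IsPGroup p K) :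
    Nat.card K ≤ p ^ m := by
  obtain ⟨j, hj⟩ := hK.exists_card_eq
  rw [hj]
  refine Nat.pow_le_pow_right hp.out.pos (le_trans ?_ hm)
  rw [← hp.out.pow_dvd_iff_le_factorization Nat.card_pos.ne', ← hj]
  exact card_subgroup_dvd_card K

/-- Divisors have smaller `p`-parts. -/
theorem factorization_le_of_dvd {a b : ℕ} (hb : b ≠ 0) (h : a ∣ b) :
    a.factorization p ≤ b.factorization p :=
  (Nat.factorization_le_iff_dvd (ne_zero_of_dvd_ne_zero hb h) hb).mpr h p

/-- `|Z(H)|` is large when `H / Z(H)` is a `p`-group. -/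
theorem card_le_center {H : Type u} [Group H] [Finite H] {m : ℕ}
    (hm : (Nat.card H).factorization p ≤ m)
    (h : ∀ z : H, (∃ r, ¬ p ∣ r ∧ z ^ r = 1) → z ∈ center H) :
    Nat.card H ≤ p ^ m * Nat.card (center H) := by
  have hpg : IsPGroup p (H ⧸ center H) := by
    intro q
    obtain ⟨x, rfl⟩ := QuotientGroup.mk_surjective q
    obtain ⟨k, r, hr, hkr⟩ := Nat.exists_eq_pow_mul_and_not_dvd (orderOf_pos x).ne' p
      hp.out.ne_one
    refine ⟨k, ?_⟩
    rw [← QuotientGroup.mk_pow]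
    refine (QuotientGroup.eq_one_iff _).mpr (h _ ⟨r, hr, ?_⟩)
    rw [← pow_mul, ← hkr, pow_orderOf_eq_one]
  obtain ⟨j, hj⟩ := hpg.exists_card_eq
  have hjm : j ≤ m := by
    refine le_trans ?_ hm
    rw [← hp.out.pow_dvd_iff_le_factorization Nat.card_pos.ne', ← hj]
    exact Dvd.intro _ (card_eq_card_quotient_mul_card_subgroup (center H)).symm
  rw [card_eq_card_quotient_mul_card_subgroup (center H), hj]
  exact Nat.mul_le_mul_right _ (Nat.pow_le_pow_right hp.out.pos hjm)

variable {F : Type v} [Field F] [IsAlgClosed F] [CharP F p]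
variable {G : Type u} [Group G] [Finite G] {V : Type v} [AddCommGroup V] [Module F V]
  [FiniteDimensional F V] (ρ : G →* Module.End F V)

/-- The scalar elements. -/
def scal : Subgroup G where
  carrier := {g | ∃ c : F, ρ g = c • 1}
  one_mem' := ⟨1, by rw [map_one, one_smul]⟩
  mul_mem' := by
    rintro a b ⟨c, hc⟩ ⟨d, hd⟩
    exact ⟨c * d, by rw [map_mul, hc, hd, smul_mul_smul_comm, mul_one]⟩
  inv_mem' := by
    rintro a ⟨c, hc⟩
    obtain ⟨k, hk⟩ : ∃ k : ℕ, a ^ k = a⁻¹ :=
      mem_powers_iff_mem_zpowers.mpr (inv_mem (mem_zpowers a))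
    refine ⟨c ^ k, ?_⟩
    rw [← hk, map_pow, hc, smul_pow, one_pow]

theorem scal_le_center (hρ : Function.Injective ρ) : scal ρ ≤ center G := by
  rintro g ⟨c, hc⟩
  rw [mem_center_iff]
  intro x
  apply hρ
  rw [map_mul, map_mul, hc, mul_smul_comm, smul_mul_assoc, one_mul, mul_one]

/-- The chain condition. -/
theorem exists_chain_rank (hρ : Function.Injective ρ) {n : ℕ} (hn : finrank F V ≤ n) :
    ∃ d : Subgroup G → ℕ, (∀ Y, d Y ≤ n * n) ∧ ∀ Y Y' : Subgroup G,
      centralizer (Y : Set G) < centralizer (Y' : Set G) → d Y < d Y' := by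
  refine ⟨fun Y => finrank F (Submodule.span F (ρ '' (centralizer (Y : Set G) : Set G))),
    fun Y => ?_, fun Y Y' h => ?_⟩
  · refine (Submodule.finrank_le _).trans ?_
    rw [Module.finrank_linearMap]
    exact Nat.mul_le_mul hn hn
  refine Submodule.finrank_lt_finrank_of_lt (lt_of_le_of_ne
    (Submodule.span_mono (Set.image_mono h.le)) fun heq => ?_)
  obtain ⟨x, hx', hx⟩ := SetLike.exists_of_lt h
  refine hx (mem_centralizer_iff.mpr fun y hy => hρ ?_)
  have hmem : ρ x ∈ Submodule.span F (ρ '' (centralizer (Y : Set G) : Set G)) :=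
    heq ▸ Submodule.subset_span ⟨x, hx', rfl⟩
  rw [map_mul, map_mul]
  suffices key : ∀ u ∈ Submodule.span F (ρ '' (centralizer (Y : Set G) : Set G)),
      ρ y * u = u * ρ y from key _ hmem
  intro u hu
  induction hu using Submodule.span_induction with
  | mem u hu =>
    obtain ⟨w, hw, rfl⟩ := hu
    rw [← map_mul, ← map_mul, mem_centralizer_iff.mp hw y hy]
  | zero => simp
  | add u w _ _ hu hw => rw [mul_add, add_mul, hu, hw]
  | smul c u _ hu => rw [mul_smul_comm, hu, smul_mul_assoc]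

include hp in
/-- Characters separate commuting semisimple elements. -/
theorem eq_one_of_forall_algHom (hρ : Function.Injective ρ) {R : Subalgebra F (Module.End F V)}
    (hR : ∀ a ∈ R, ∀ b ∈ R, a * b = b * a) {c : G} {r : ℕ} (hr : ¬ p ∣ r) (hcr : c ^ r = 1)
    (hc : ρ c ∈ R) (h : ∀ χ : R →ₐ[F] F, χ ⟨ρ c, hc⟩ = 1) : c = 1 := by
  rcases subsingleton_or_nontrivial (Module.End F V) with hsub | hnt
  · exact hρ (Subsingleton.elim _ _)
  letI : CommRing R := { (inferInstance : Ring R) with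
    mul_comm := fun a b => Subtype.ext (hR a.1 a.2 b.1 b.2) }
  have : Module.Finite F R := FiniteDimensional.finiteDimensional_submodule
    (Subalgebra.toSubmodule R)
  have : IsArtinianRing R := IsArtinianRing.of_finite F R
  have : CharP (Module.End F V) p :=
    charP_of_injective_algebraMap (algebraMap F (Module.End F V)).injective p
  have hnil : IsNilpotent ((⟨ρ c, hc⟩ : R) - 1) := by
    rw [nilpotent_iff_mem_prime]
    intro I hI
    have := IsArtinianRing.isMaximal_of_isPrime I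
    letI := Ideal.Quotient.field I
    let χ : R →ₐ[F] F :=
      (IsAlgClosed.lift : (R ⧸ I) →ₐ[F] F).comp (Ideal.Quotient.mkₐ F I)
    have hχ : χ ((⟨ρ c, hc⟩ : R) - 1) = 0 := by rw [map_sub, h χ, map_one, sub_self]
    rw [← Ideal.Quotient.eq_zero_iff_mem]
    exact (IsAlgClosed.lift : (R ⧸ I) →ₐ[F] F).toRingHom.injective (hχ.trans (map_zero _).symm)
  obtain ⟨k, hk⟩ := hnil
  have hk' : (ρ c - 1) ^ k = 0 := by
    have := congrArg Subtype.val hk
    simpa using this
  have hk2 : (ρ c - 1) ^ p ^ k = 0 :=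
    pow_eq_zero_of_le (Nat.lt_pow_self hp.out.one_lt).le hk'
  rw [sub_pow_char_pow_of_commute (p := p) (n := k) (h := Commute.one_right _), one_pow,
    sub_eq_zero, ← map_pow, ← map_one ρ] at hk2
  have h1 : orderOf c ∣ p ^ k := orderOf_dvd_of_pow_eq_one (hρ hk2)
  have h2 : orderOf c ∣ r := orderOf_dvd_of_pow_eq_one hcr
  rw [← orderOf_eq_one_iff]
  exact Nat.eq_one_of_dvd_coprimes
    (((Nat.Prime.coprime_iff_not_dvd hp.out).mpr hr).pow_left k) h1 h2

include hp in
/-- `[N(A) : C(A)]` for abelian `A`. -/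
theorem card_normalizer_le (hρ : Function.Injective ρ) {n m : ℕ} (hn : finrank F V ≤ n)
    (hm : (Nat.card G).factorization p ≤ m) {A : Subgroup G}
    (hA : ∀ a ∈ A, ∀ b ∈ A, a * b = b * a) :
    Nat.card (normalizer (A : Set G)) ≤
      (p ^ m + 1) ^ p ^ m * (n * n + 1) ^ (n * n) * Nat.card (centralizer (A : Set G)) := by
  classical
  let Ap : Subgroup G :=
    { carrier := {a | a ∈ A ∧ ∃ k, a ^ p ^ k = 1}
      one_mem' := ⟨A.one_mem, 0, one_pow _⟩
      mul_mem' := by
        rintro a b ⟨ha, k, hk⟩ ⟨hb, l, hl⟩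
        refine ⟨A.mul_mem ha hb, k + l, ?_⟩
        rw [Commute.mul_pow (hA a ha b hb), pow_add, pow_mul, hk, one_pow, one_mul, mul_comm,
          pow_mul, hl, one_pow]
      inv_mem' := by
        rintro a ⟨ha, k, hk⟩
        exact ⟨A.inv_mem ha, k, by rw [inv_pow, hk, inv_one]⟩ }
  let A' : Subgroup G :=
    { carrier := {a | a ∈ A ∧ ∃ r, ¬ p ∣ r ∧ a ^ r = 1}
      one_mem' := ⟨A.one_mem, 1, fun h => hp.out.ne_one (Nat.dvd_one.mp h), one_pow _⟩
      mul_mem' := by
        rintro a b ⟨ha, k, hk0, hk⟩ ⟨hb, l, hl0, hl⟩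
        refine ⟨A.mul_mem ha hb, k * l, fun h => (hp.out.dvd_mul.mp h).elim hk0 hl0, ?_⟩
        rw [Commute.mul_pow (hA a ha b hb), pow_mul, hk, one_pow, one_mul, mul_comm k, pow_mul,
          hl, one_pow]
      inv_mem' := by
        rintro a ⟨ha, k, hk0, hk⟩
        exact ⟨A.inv_mem ha, k, hk0, by rw [inv_pow, hk, inv_one]⟩ }
  have hAp : Nat.card Ap ≤ p ^ m := by
    refine card_le_of_isPGroup hm fun x => ?_
    obtain ⟨k, hk⟩ := x.2.2
    exact ⟨k, Subtype.ext hk⟩
  set R := Algebra.adjoin F (ρ '' (A' : Set G)) with hRdef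
  have hgens : ∀ a ∈ ρ '' (A' : Set G), ∀ b ∈ ρ '' (A' : Set G), a * b = b * a := by
    rintro _ ⟨a, ha, rfl⟩ _ ⟨b, hb, rfl⟩
    rw [← map_mul, ← map_mul, hA a ha.1 b hb.1]
  letI hcr : CommRing R := Algebra.adjoinCommRingOfComm F hgens
  have hRcomm : ∀ a ∈ R, ∀ b ∈ R, a * b = b * a := fun a ha b hb =>
    congrArg Subtype.val (mul_comm (⟨a, ha⟩ : R) ⟨b, hb⟩)
  have : Module.Finite F R := FiniteDimensional.finiteDimensional_submodule
    (Subalgebra.toSubmodule R)
  have hΦ : Nat.card (R →ₐ[F] F) ≤ n * n := by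
    refine (card_algHom_le_finrank F R F).trans ((Submodule.finrank_le
      (Subalgebra.toSubmodule R)).trans ?_)
    rw [Module.finrank_linearMap]
    exact Nat.mul_le_mul hn hn
  -- conjugation
  let cj : G → (Module.End F V →ₐ[F] Module.End F V) := fun x =>
    { toFun := fun u => ρ x * u * ρ x⁻¹
      map_one' := by rw [mul_one, ← map_mul, mul_inv_cancel, map_one]
      map_mul' := fun u w => by
        have : ρ x⁻¹ * ρ x = 1 := by rw [← map_mul, inv_mul_cancel, map_one]
        calc ρ x * (u * w) * ρ x⁻¹ = ρ x * u * 1 * (w * ρ x⁻¹) := by simp [mul_assoc]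
          _ = ρ x * u * (ρ x⁻¹ * ρ x) * (w * ρ x⁻¹) := by rw [this]
          _ = _ := by simp [mul_assoc]
      map_zero' := by simp
      map_add' := fun u w => by simp [mul_add, add_mul]
      commutes' := fun c => by
        rw [← Algebra.commutes, mul_assoc, ← map_mul, mul_inv_cancel, map_one, mul_one] }
  set N := normalizer (A : Set G)
  have hNA' : ∀ x : N, ∀ a ∈ A', (x : G) * a * (x : G)⁻¹ ∈ A' := by
    rintro x a ⟨ha, r, hr, har⟩
    exact ⟨(mem_normalizer_iff.mp x.2 a).mp ha, r, hr, by rw [conj_pow, har, mul_one, mul_inv_cancel]⟩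
  have hNAp : ∀ x : N, ∀ a ∈ Ap, (x : G) * a * (x : G)⁻¹ ∈ Ap := by
    rintro x a ⟨ha, k, hak⟩
    exact ⟨(mem_normalizer_iff.mp x.2 a).mp ha, k, by rw [conj_pow, hak, mul_one, mul_inv_cancel]⟩
  have hcjR : ∀ x : N, ∀ u ∈ R, cj x u ∈ R := by
    intro x u hu
    have : R.map (cj x) ≤ R := by
      rw [hRdef, AlgHom.map_adjoin, Algebra.adjoin_le_iff]
      rintro _ ⟨_, ⟨a, ha, rfl⟩, rfl⟩
      refine Algebra.subset_adjoin ⟨_, hNA' x a ha, ?_⟩
      rw [map_mul, map_mul]
      rfl
    exact this ⟨u, hu, rfl⟩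
  let f : N → (Ap → Ap) × ((R →ₐ[F] F) → (R →ₐ[F] F)) := fun x =>
    (fun a => ⟨_, hNAp x a.1 a.2⟩,
      fun χ => χ.comp (((cj x).comp R.val).codRestrict R (fun u => hcjR x u.1 u.2)))
  have hfib : ∀ x y : N, f x = f y → (x : G)⁻¹ * y ∈ centralizer (A : Set G) := by
    intro x y hxy
    obtain ⟨h1, h2⟩ := Prod.ext_iff.mp hxy
    have hconj : ∀ a, (x : G) * a * (x : G)⁻¹ = (y : G) * a * (y : G)⁻¹ →
        a * ((x : G)⁻¹ * y) = (x : G)⁻¹ * y * a := by
      intro a e
      calc a * ((x : G)⁻¹ * y) = (x : G)⁻¹ * ((x : G) * a * (x : G)⁻¹) * y := by simp [mul_assoc]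
        _ = (x : G)⁻¹ * ((y : G) * a * (y : G)⁻¹) * y := by rw [e]
        _ = _ := by simp [mul_assoc]
    have hp1 : ∀ a ∈ Ap, (x : G) * a * (x : G)⁻¹ = (y : G) * a * (y : G)⁻¹ := fun a ha =>
      congrArg Subtype.val (congrFun h1 ⟨a, ha⟩)
    have hp2 : ∀ a ∈ A', (x : G) * a * (x : G)⁻¹ = (y : G) * a * (y : G)⁻¹ := by
      intro a ha
      have hxa := hNA' x a ha
      have hya := hNA' y a ha
      obtain ⟨r, hr, hcr'⟩ := (A'.mul_mem (A'.inv_mem hxa) hya).2
      have hmem : ∀ b ∈ A', ρ b ∈ R := fun b hb => Algebra.subset_adjoin ⟨b, hb, rfl⟩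
      refine inv_mul_eq_one.mp (eq_one_of_forall_algHom ρ hρ hRcomm hr hcr'
        (hmem _ (A'.mul_mem (A'.inv_mem hxa) hya)) fun χ => ?_)
      have key : χ ⟨_, hmem _ hxa⟩ = χ ⟨_, hmem _ hya⟩ := by
        have h3 := congrArg (fun φ => φ ⟨ρ a, hmem a ha⟩) (congrFun h2 χ)
        have e : ∀ (z : N) (hz : (z : G) * a * (z : G)⁻¹ ∈ A'),
            (f z).2 χ ⟨ρ a, hmem a ha⟩ = χ ⟨_, hmem _ hz⟩ := fun z hz => by
          refine congrArg χ (Subtype.ext ?_)
          change ρ (z : G) * ρ a * ρ (z : G)⁻¹ = ρ ((z : G) * a * (z : G)⁻¹)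
          rw [map_mul, map_mul]
        rw [← e x hxa, ← e y hya]
        exact h3
      have hone : χ ⟨_, hmem _ (A'.inv_mem hxa)⟩ * χ ⟨_, hmem _ hxa⟩ = 1 := by
        rw [← map_mul χ, ← map_one χ]
        refine congrArg χ (Subtype.ext ?_)
        change ρ _ * ρ _ = 1
        rw [← map_mul, inv_mul_cancel, map_one]
      calc χ ⟨_, hmem _ (A'.mul_mem (A'.inv_mem hxa) hya)⟩
          = χ (⟨_, hmem _ (A'.inv_mem hxa)⟩ * ⟨_, hmem _ hya⟩) :=
            congrArg χ (Subtype.ext (map_mul ρ _ _))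
        _ = 1 := by rw [map_mul, ← key, hone]
    have hle : A ≤ centralizer {(x : G)⁻¹ * y} := by
      intro a ha
      obtain ⟨k, r, hr, hkr⟩ := Nat.exists_eq_pow_mul_and_not_dvd (orderOf_pos a).ne' p
        hp.out.ne_one
      set C := centralizer {(x : G)⁻¹ * (y : G)}
      have hr' : a ^ r ∈ C := mem_centralizer_singleton_iff.mpr (hconj _ (hp1 _
        ⟨A.pow_mem ha r, k, by rw [← pow_mul, mul_comm, ← hkr, pow_orderOf_eq_one]⟩))
      have hk' : a ^ p ^ k ∈ C := mem_centralizer_singleton_iff.mpr (hconj _ (hp2 _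
        ⟨A.pow_mem ha _, r, hr, by rw [← pow_mul, ← hkr, pow_orderOf_eq_one]⟩))
      have hg := Nat.gcd_eq_gcd_ab (p ^ k) r
      rw [Nat.Coprime.gcd_eq_one (((Nat.Prime.coprime_iff_not_dvd hp.out).mpr hr).pow_left k)] at hg
      have : a = (a ^ p ^ k) ^ Nat.gcdA (p ^ k) r * (a ^ r) ^ Nat.gcdB (p ^ k) r := by
        rw [← zpow_natCast a (p ^ k), ← zpow_natCast a r, ← zpow_mul, ← zpow_mul, ← zpow_add,
          ← hg, Nat.cast_one, zpow_one]
      rw [this]
      exact C.mul_mem (C.zpow_mem hk' _) (C.zpow_mem hr' _)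
    exact mem_centralizer_iff.mpr fun a ha => mem_centralizer_singleton_iff.mp (hle ha)
  refine (card_le_of_fibres f hfib).trans ?_
  rw [mul_comm]
  refine Nat.mul_le_mul_right _ ?_
  rw [Nat.card_prod, Nat.card_fun, Nat.card_fun]
  exact Nat.mul_le_mul (pow_le_pow_of_le_succ hAp hAp) (pow_le_pow_of_le_succ hΦ hΦ)

include hp in
/-- An abelian subgroup of bounded index in a centraliser, given one modulo an invariant subspace
and on it. -/
theorem card_centralizer_le (hρ : Function.Injective ρ) {m f : ℕ}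
    (hm : (Nat.card G).factorization p ≤ m) {g : G} (hg : g ∉ scal ρ)
    (ih : ∀ (W : Type v) [AddCommGroup W] [Module F W] [FiniteDimensional F W],
      finrank F W < finrank F V → ∀ (H : Subgroup G) (σ : H →* Module.End F W),
      ∃ B : Subgroup H, (∀ a ∈ B, ∀ b ∈ B, σ (a * b) = σ (b * a)) ∧
        Nat.card H ≤ f * Nat.card B) :
    ∃ A : Subgroup G, (∀ a ∈ A, ∀ b ∈ A, a * b = b * a) ∧ A ≤ centralizer {g} ∧
      Nat.card (centralizer ({g} : Set G)) ≤
        f * f * ((p ^ m + 1) ^ p ^ m) * p ^ m * Nat.card A := by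
  classical
  have hnt : Nontrivial V := by
    by_contra h
    rw [not_nontrivial_iff_subsingleton] at h
    exact hg ⟨1, LinearMap.ext fun v => Subsingleton.elim _ _⟩
  obtain ⟨c, hc⟩ := Module.End.exists_eigenvalue (ρ g)
  set W := Module.End.eigenspace (ρ g) c with hW
  have hWbot : W ≠ ⊥ := hc
  have hWtop : W ≠ ⊤ := by
    intro h
    refine hg ⟨c, LinearMap.ext fun v => ?_⟩
    have hv : v ∈ W := h ▸ Submodule.mem_top
    simpa using Module.End.mem_eigenspace_iff.mp hv
  set C := centralizer ({g} : Set G) with hC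
  have hCW : ∀ x : C, W ≤ W.comap (ρ x) := by
    intro x v hv
    rw [Submodule.mem_comap, Module.End.mem_eigenspace_iff]
    have h1 : ρ g (ρ x v) = ρ x (ρ g v) := by
      rw [← Module.End.mul_apply, ← map_mul, ← mem_centralizer_singleton_iff.mp x.2, map_mul,
        Module.End.mul_apply]
    rw [h1, Module.End.mem_eigenspace_iff.mp hv, map_smul]
  let τ : Representation F C V := ρ.comp C.subtype
  let σ₁ : C →* Module.End F W := τ.subrepresentation W hCW
  let σ₂ : C →* Module.End F (V ⧸ W) := τ.quotient W hCW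
  have hσ₁ : ∀ (x : C) (w : W), ((σ₁ x w : W) : V) = ρ x w := fun _ _ => rfl
  have hσ₂ : ∀ (x : C) (v : V), σ₂ x (Submodule.Quotient.mk v) = Submodule.Quotient.mk (ρ x v) :=
    fun _ _ => rfl
  have hd1 : finrank F W < finrank F V := Submodule.finrank_lt hWtop
  have hd2 : finrank F (V ⧸ W) < finrank F V := by
    have := Submodule.finrank_quotient_add_finrank W
    have hpos : 0 < finrank F W := by
      rw [Nat.pos_iff_ne_zero, Ne, Submodule.finrank_eq_zero]; exact hWbot
    omega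
  obtain ⟨B₁, hB₁, hB₁c⟩ := ih W hd1 C σ₁
  obtain ⟨B₂, hB₂, hB₂c⟩ := ih (V ⧸ W) hd2 C σ₂
  set H := B₁ ⊓ B₂ with hH
  have hHc : Nat.card C ≤ f * f * Nat.card H := by
    have h1 := card_mul_card_le_card_mul_inf (le_top : B₁ ≤ ⊤) (le_top : B₂ ≤ ⊤)
    rw [card_top] at h1
    refine Nat.le_of_mul_le_mul_right (c := Nat.card C) ?_ Nat.card_pos
    calc Nat.card C * Nat.card C ≤ (f * Nat.card B₁) * (f * Nat.card B₂) :=
          Nat.mul_le_mul hB₁c hB₂c
      _ = f * f * (Nat.card B₁ * Nat.card B₂) := by ring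
      _ ≤ f * f * (Nat.card C * Nat.card H) := Nat.mul_le_mul_left _ h1
      _ = f * f * Nat.card H * Nat.card C := by ring
  set K := σ₁.ker ⊓ σ₂.ker with hK
  have hKexp : ∀ x ∈ K, x ^ p = 1 := by
    intro x hx
    obtain ⟨hx1, hx2⟩ := hx
    have hx1' : σ₁ x = 1 := hx1
    have hx2' : σ₂ x = 1 := hx2
    have hsq : (ρ x - 1) ^ 2 = 0 := by
      refine LinearMap.ext fun v => ?_
      have hvW : (ρ x - 1) v ∈ W := by
        have h1 := hσ₂ x v
        rw [hx2', Module.End.one_apply] at h1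
        exact (Submodule.Quotient.eq W).mp h1.symm
      rw [pow_two, Module.End.mul_apply]
      have h2 := hσ₁ x ⟨_, hvW⟩
      rw [hx1', Module.End.one_apply] at h2
      rw [LinearMap.sub_apply, ← h2, Module.End.one_apply, sub_self]
      rfl
    have : CharP (Module.End F V) p :=
      charP_of_injective_algebraMap (algebraMap F (Module.End F V)).injective p
    have hpz : (ρ x - 1) ^ p ^ 1 = 0 := by
      rw [pow_one]; exact pow_eq_zero_of_le hp.out.two_le hsq
    rw [sub_pow_char_pow_of_commute (p := p) (n := 1) (h := Commute.one_right _), one_pow, pow_one,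
      sub_eq_zero, ← map_pow, ← map_one ρ] at hpz
    exact Subtype.ext (hρ hpz)
  have hmC : (Nat.card C).factorization p ≤ m :=
    (factorization_le_of_dvd Nat.card_pos.ne' (card_subgroup_dvd_card C)).trans hm
  have hKcard : Nat.card K ≤ p ^ m :=
    card_le_of_isPGroup hmC fun x => ⟨1, Subtype.ext (by rw [pow_one]; exact hKexp x.1 x.2)⟩
  have hKn : K.Normal := by
    refine ⟨fun k hk x => ⟨?_, ?_⟩⟩
    · exact (MonoidHom.normal_ker σ₁).conj_mem k hk.1 x
    · exact (MonoidHom.normal_ker σ₂).conj_mem k hk.2 x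
  set H₁ := H ⊓ centralizer (K : Set C) with hH₁
  have hH₁c : Nat.card H ≤ (p ^ m + 1) ^ p ^ m * Nat.card H₁ := by
    let φ : H → (K → K) := fun x k => ⟨(x : C) * k * (x : C)⁻¹, hKn.conj_mem _ k.2 _⟩
    refine (card_le_of_fibres (C := H₁) φ fun x y hxy => ⟨H.mul_mem (H.inv_mem x.2) y.2, ?_⟩).trans ?_
    · refine mem_centralizer_iff.mpr ?_
      intro k hk
      have e : (x : C) * k * (x : C)⁻¹ = (y : C) * k * (y : C)⁻¹ :=
        congrArg Subtype.val (congrFun hxy ⟨k, hk⟩)
      calc k * ((x : C)⁻¹ * y) = (x : C)⁻¹ * ((x : C) * k * (x : C)⁻¹) * y := by simp [mul_assoc]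
        _ = (x : C)⁻¹ * ((y : C) * k * (y : C)⁻¹) * y := by rw [e]
        _ = _ := by simp [mul_assoc]
    · rw [mul_comm, Nat.card_fun]
      exact Nat.mul_le_mul_right _ (pow_le_pow_of_le_succ hKcard hKcard)
  have hcentral : ∀ z : H₁, (∃ r, ¬ p ∣ r ∧ z ^ r = 1) → z ∈ center H₁ := by
    rintro z ⟨r, hr, hzr⟩
    rw [mem_center_iff]
    intro y
    apply Subtype.ext
    change (y : C) * z = z * y
    set c := (z : C) * y * (z : C)⁻¹ * (y : C)⁻¹ with hcdef
    have hcK : c ∈ K := by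
      have key : ∀ {W' : Type v} [AddCommGroup W'] [Module F W'] (σ : C →* Module.End F W')
          (B : Subgroup C), (∀ a ∈ B, ∀ b ∈ B, σ (a * b) = σ (b * a)) → (z : C) ∈ B → (y : C) ∈ B →
          c ∈ σ.ker := by
        intro W' _ _ σ B hB hz hy
        rw [MonoidHom.mem_ker, hcdef, mul_assoc, map_mul, hB _ hz _ hy, ← map_mul]
        simp [mul_assoc]
      exact ⟨key σ₁ B₁ hB₁ z.2.1.1 y.2.1.1, key σ₂ B₂ hB₂ z.2.1.2 y.2.1.2⟩
    have hcz : (z : C) * c = c * z := (mem_centralizer_iff.mp z.2.2 c hcK).symm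
    have hiter : ∀ k : ℕ, (z : C) ^ k * y * ((z : C) ^ k)⁻¹ = c ^ k * y := by
      intro k
      induction k with
      | zero => simp
      | succ k ihk =>
        have h1 : (z : C) * c ^ k = c ^ k * z := ((show Commute (z : C) c from hcz).pow_right k).eq
        calc (z : C) ^ (k + 1) * y * ((z : C) ^ (k + 1))⁻¹
            = (z : C) * ((z : C) ^ k * y * ((z : C) ^ k)⁻¹) * (z : C)⁻¹ := by
              rw [pow_succ']; simp [mul_assoc]
          _ = (z : C) * c ^ k * y * (z : C)⁻¹ := by rw [ihk]; simp [mul_assoc]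
          _ = c ^ k * (z * y * (z : C)⁻¹ * (y : C)⁻¹) * y := by rw [h1]; simp [mul_assoc]
          _ = c ^ (k + 1) * y := by rw [← hcdef, pow_succ]
    have hcr : c ^ r = 1 := by
      have h1 := hiter r
      have h2 : (z : C) ^ r = 1 := by rw [← SubgroupClass.coe_pow, hzr, OneMemClass.coe_one]
      rw [h2, one_mul, inv_one, mul_one] at h1
      exact mul_eq_right.mp h1.symm
    have hc1 : c = 1 := by
      rw [← orderOf_eq_one_iff]
      exact Nat.eq_one_of_dvd_coprimes ((Nat.Prime.coprime_iff_not_dvd hp.out).mpr hr)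
        (orderOf_dvd_of_pow_eq_one (hKexp c hcK)) (orderOf_dvd_of_pow_eq_one hcr)
    rw [hcdef] at hc1
    calc (y : C) * z = ((z : C) * y * (z : C)⁻¹ * (y : C)⁻¹) * ((y : C) * z) := by
          rw [hc1, one_mul]
      _ = (z : C) * y := by simp [mul_assoc]
  have hmH : (Nat.card H₁).factorization p ≤ m :=
    (factorization_le_of_dvd Nat.card_pos.ne' (card_subgroup_dvd_card H₁)).trans hmC
  have hfin := card_le_center hmH hcentral
  refine ⟨((center H₁).map H₁.subtype).map C.subtype, ?_, map_subtype_le _, ?_⟩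
  · rintro _ ⟨_, ⟨a, ha, rfl⟩, rfl⟩ _ ⟨_, ⟨b, -, rfl⟩, rfl⟩
    rw [← map_mul, ← map_mul, ← map_mul, ← map_mul, ← mem_center_iff.mp ha b]
  · rw [card_map_of_injective C.subtype_injective, card_map_of_injective H₁.subtype_injective]
    calc Nat.card C ≤ f * f * Nat.card H := hHc
      _ ≤ f * f * ((p ^ m + 1) ^ p ^ m * (p ^ m * Nat.card (center H₁))) :=
          Nat.mul_le_mul_left _ (hH₁c.trans (Nat.mul_le_mul_left _ hfin))
      _ = _ := by ring

variable (p) in
include hp in
/-- A bound for linear groups of degree `n` in characteristic `p` with `|G|_p ≤ p ^ m`. -/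
theorem exists_linear_bound (n m : ℕ) : ∃ f : ℕ, ∀ (F : Type v) [Field F] [IsAlgClosed F]
    [CharP F p] (G : Type u) [Group G] [Finite G] (V : Type v) [AddCommGroup V] [Module F V]
    [FiniteDimensional F V], finrank F V ≤ n → (Nat.card G).factorization p ≤ m →
    ∀ ρ : G →* Module.End F V, ∃ A : Subgroup G, (∀ a ∈ A, ∀ b ∈ A, ρ (a * b) = ρ (b * a)) ∧
      Nat.card G ≤ f * Nat.card A := by
  induction n with
  | zero =>
    refine ⟨1, fun F _ _ _ G _ _ V _ _ _ hn _ ρ => ⟨⊤, fun a _ b _ => ?_, ?_⟩⟩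
    · have : Subsingleton V := Module.finrank_zero_iff.mp (Nat.le_zero.mp hn)
      exact LinearMap.ext fun v => Subsingleton.elim _ _
    · rw [card_top, one_mul]
  | succ n ih =>
    obtain ⟨f, hf⟩ := ih
    set J₁ := f * f * ((p ^ m + 1) ^ p ^ m) * p ^ m
    set J₂ := (p ^ m + 1) ^ p ^ m * ((n + 1) * (n + 1) + 1) ^ ((n + 1) * (n + 1))
    set J := J₁ + J₂ + (n + 1) * (n + 1) + 1
    refine ⟨jordanBound J, fun F _ _ _ G _ _ V _ _ _ hn hm ρ => ?_⟩
    let Q := G ⧸ ρ.ker
    let ρ' : Q →* Module.End F V := QuotientGroup.lift ρ.ker ρ le_rfl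
    have hρ' : Function.Injective ρ' := by
      intro a b
      obtain ⟨x, rfl⟩ := QuotientGroup.mk_surjective a
      obtain ⟨y, rfl⟩ := QuotientGroup.mk_surjective b
      intro hxy
      refine QuotientGroup.eq.mpr ?_
      have h1 : ρ x = ρ y := hxy
      rw [MonoidHom.mem_ker, map_mul, ← h1, ← map_mul, inv_mul_cancel, map_one]
    have hmQ : (Nat.card Q).factorization p ≤ m :=
      (factorization_le_of_dvd Nat.card_pos.ne' (card_quotient_dvd_card ρ.ker)).trans hm
    have H : Hyp (scal ρ') J :=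
      { one_le := Nat.le_add_left 1 _
        le_center := scal_le_center ρ' hρ'
        cent := fun g hg => by
          obtain ⟨A, h1, h2, h3⟩ := card_centralizer_le (f := f) ρ' hρ' hmQ hg
            (fun W _ _ _ hW H σ => hf F H W (Nat.le_of_lt_succ (hW.trans_le hn))
              ((factorization_le_of_dvd Nat.card_pos.ne' (card_subgroup_dvd_card H)).trans hmQ) σ)
          exact ⟨A, h1, h2, h3.trans (Nat.mul_le_mul_right _ (by omega))⟩
        norm := fun A hA =>
          (card_normalizer_le ρ' hρ' hn hmQ hA).trans (Nat.mul_le_mul_right _ (by omega))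
        chain := by
          obtain ⟨d, hd1, hd2⟩ := exists_chain_rank ρ' hρ' hn
          exact ⟨d, fun Y => (hd1 Y).trans (by omega), hd2⟩ }
    obtain ⟨A, hA, hAc⟩ := exists_abelian H
    refine ⟨A.comap (QuotientGroup.mk' ρ.ker), fun a ha b hb => ?_, ?_⟩
    · have := congrArg ρ' (hA _ ha _ hb)
      rw [← map_mul, ← map_mul] at this
      exact this
    · rw [card_eq_card_quotient_mul_card_subgroup ρ.ker]
      calc Nat.card Q * Nat.card ρ.ker ≤ jordanBound J * Nat.card A * Nat.card ρ.ker :=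
            Nat.mul_le_mul_right _ hAc
        _ = jordanBound J * (Nat.card A * Nat.card ρ.ker) := mul_assoc _ _ _
        _ = _ := by
          congr 1
          exact ((Nat.card_congr (QuotientGroup.preimageMkEquivSubgroupProdSet ρ.ker
            (A : Set Q))).trans ((Nat.card_prod _ _).trans (mul_comm _ _))).symm

end Cfsg.Agent.JordanP
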