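import Mathlib

/-!
An abstract form of Jordan's class equation argument.

Let `G` be finite, `Z` central, and suppose that (a) centralisers of elements outside `Z` are
abelian-by-bounded, (b) `[N(A) : C(A)]` is bounded for abelian `A`, and (c) centralisers have
bounded chains.  "Tori" are abelian subgroups of maximal order among the large abelian subgroups
which meet them outside `Z`.  Meeting outside `Z` is an equivalence relation on tori, and the
intersection of a class is a subgroup of bounded index in each of its members.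
-/

set_option autoImplicit false

open Subgroup

namespace Cfsg.Agent.JordanP

universe u

set_option linter.unusedSectionVars false

variable {G : Type u} [Group G] [Finite G]

/-- An abelian subgroup containing `Z`. -/
def Ab (Z M : Subgroup G) : Prop := Z ≤ M ∧ ∀ a ∈ M, ∀ b ∈ M, a * b = b * a

/-- More than `L` cosets of `Z`. -/
def Big (Z : Subgroup G) (L : ℕ) (M : Subgroup G) : Prop := L * Nat.card Z < Nat.card M

/-- Meeting outside `Z`. -/
def Shares (Z M N : Subgroup G) : Prop := ¬ M ⊓ N ≤ Z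

/-- The three hypotheses of the argument. -/
structure Hyp (Z : Subgroup G) (J : ℕ) : Prop where
  one_le : 1 ≤ J
  le_center : Z ≤ center G
  cent : ∀ g : G, g ∉ Z → ∃ A : Subgroup G, (∀ a ∈ A, ∀ b ∈ A, a * b = b * a) ∧
    A ≤ centralizer {g} ∧ Nat.card (centralizer ({g} : Set G)) ≤ J * Nat.card A
  norm : ∀ A : Subgroup G, (∀ a ∈ A, ∀ b ∈ A, a * b = b * a) →
    Nat.card (normalizer (A : Set G)) ≤ J * Nat.card (centralizer (A : Set G))
  chain : ∃ d : Subgroup G → ℕ, (∀ Y, d Y ≤ J) ∧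
    ∀ Y Y' : Subgroup G, centralizer (Y : Set G) < centralizer (Y' : Set G) → d Y < d Y'

/-- `|H| |K| ≤ |C| |H ⊓ K|` for `H, K ≤ C`. -/
theorem card_mul_card_le_card_mul_inf {H K C : Subgroup G} (hH : H ≤ C) (hK : K ≤ C) :
    Nat.card H * Nat.card K ≤ Nat.card C * Nat.card (H ⊓ K : Subgroup G) := by
  have h1 : Nat.card (H ⊓ K : Subgroup G) * (H ⊓ K).relIndex H = Nat.card H := by
    rw [← relIndex_bot_left, ← relIndex_bot_left]
    exact relIndex_mul_relIndex _ _ _ bot_le inf_le_left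
  have h2 : Nat.card K * K.relIndex C = Nat.card C := by
    rw [← relIndex_bot_left, ← relIndex_bot_left]
    exact relIndex_mul_relIndex _ _ _ bot_le hK
  have h3 : (H ⊓ K).relIndex H ≤ K.relIndex C := by
    rw [inf_relIndex_left]
    refine relIndex_le_of_le_right hH ?_
    intro h0
    rw [h0, mul_zero] at h2
    exact Nat.card_pos.ne' h2.symm
  rw [← h1, ← h2]
  calc Nat.card (H ⊓ K : Subgroup G) * (H ⊓ K).relIndex H * Nat.card K
      = Nat.card K * (H ⊓ K).relIndex H * Nat.card (H ⊓ K : Subgroup G) := by ring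
    _ ≤ Nat.card K * K.relIndex C * Nat.card (H ⊓ K : Subgroup G) :=
        Nat.mul_le_mul_right _ (Nat.mul_le_mul_left _ h3)

/-- A large subgroup is not in `Z`. -/
theorem not_le_of_card {Z M N : Subgroup G} {c L : ℕ} (hc : c ≤ L) (hM : Big Z L M)
    (h : Nat.card M ≤ c * Nat.card N) : ¬ N ≤ Z := by
  intro hNZ
  have h1 : Nat.card N ≤ Nat.card Z := Nat.le_of_dvd Nat.card_pos (card_dvd_of_le hNZ)
  exact absurd hM (Nat.not_lt.mpr (h.trans (Nat.mul_le_mul hc h1)))

variable {Z : Subgroup G} {J : ℕ}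

theorem Ab.le_centralizer {M : Subgroup G} (hM : Ab Z M) {g : G} (hg : g ∈ M) :
    M ≤ centralizer {g} := fun x hx => mem_centralizer_singleton_iff.mpr (hM.2 x hx g hg)

/-- Joining with a commuting abelian subgroup. -/
theorem ab_sup {M N : Subgroup G} (hM : Ab Z M) (hN : ∀ a ∈ N, ∀ b ∈ N, a * b = b * a)
    (h : N ≤ centralizer (M : Set G)) : Ab Z (M ⊔ N) := by
  refine ⟨hM.1.trans le_sup_left, ?_⟩
  have h1 : M ⊔ N ≤ centralizer (M : Set G) :=
    sup_le (fun x hx => mem_centralizer_iff.mpr fun y hy => hM.2 y hy x hx) h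
  have h2 : M ⊔ N ≤ centralizer (N : Set G) :=
    sup_le (le_centralizer_iff.mp h) (fun x hx => mem_centralizer_iff.mpr fun y hy => hN y hy x hx)
  have h3 : M ⊔ N ≤ centralizer ((M ⊔ N : Subgroup G) : Set G) :=
    le_centralizer_iff.mp (sup_le (le_centralizer_iff.mp h1) (le_centralizer_iff.mp h2))
  exact fun a ha b hb => (mem_centralizer_iff.mp (h3 hb) a ha)

theorem Hyp.ab_zpowers (H : Hyp Z J) (g : G) : Ab Z (Z ⊔ zpowers g) := by
  refine ab_sup ⟨le_rfl, fun a ha b _ => ?_⟩ (fun a ha b hb => ?_) ?_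
  · exact (mem_center_iff.mp (H.le_center ha) b).symm
  · obtain ⟨i, rfl⟩ := mem_zpowers_iff.mp ha
    obtain ⟨j, rfl⟩ := mem_zpowers_iff.mp hb
    exact zpow_mul_comm g i j
  · exact fun x _ => mem_centralizer_iff.mpr fun z hz => (mem_center_iff.mp (H.le_center hz) x).symm

/-- An abelian subgroup of largest order through `g` has bounded index in the centraliser. -/
theorem Hyp.exists_max (H : Hyp Z J) {g : G} (hg : g ∉ Z) : ∃ A : Subgroup G, Ab Z A ∧ g ∈ A ∧
    A ≤ centralizer {g} ∧ Nat.card (centralizer ({g} : Set G)) ≤ J * Nat.card A ∧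
    ∀ M : Subgroup G, Ab Z M → g ∈ M → Nat.card M ≤ Nat.card A := by
  classical
  obtain ⟨A, ⟨hA, hgA⟩, hmax⟩ := Set.exists_max_image {M : Subgroup G | Ab Z M ∧ g ∈ M}
    (fun M => Nat.card M) (Set.toFinite _)
    ⟨_, H.ab_zpowers g, mem_sup_right (mem_zpowers g)⟩
  refine ⟨A, hA, hgA, hA.le_centralizer hgA, ?_, fun M hM hgM => hmax M ⟨hM, hgM⟩⟩
  obtain ⟨B, hB, hBg, hcard⟩ := H.cent g hg
  refine hcard.trans (Nat.mul_le_mul_left _ ?_)
  have hc : B ≤ centralizer ((Z ⊔ zpowers g : Subgroup G) : Set G) := by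
    rw [le_centralizer_iff]
    refine sup_le (fun z hz => mem_centralizer_iff.mpr fun x _ => mem_center_iff.mp (H.le_center hz) x)
      (zpowers_le.mpr (mem_centralizer_iff.mpr fun x hx => mem_centralizer_singleton_iff.mp (hBg hx)))
  have hAb := ab_sup (H.ab_zpowers g) hB hc
  exact (Nat.le_of_dvd Nat.card_pos (card_dvd_of_le le_sup_right)).trans
    (hmax _ ⟨hAb, mem_sup_left (mem_sup_right (mem_zpowers g))⟩)

/-- Overlap with the largest abelian subgroup through an element. -/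
theorem card_le_mul_inf {M A : Subgroup G} {g : G} (hM : Ab Z M) (hgM : g ∈ M)
    (hA : A ≤ centralizer {g}) (hcard : Nat.card (centralizer ({g} : Set G)) ≤ J * Nat.card A) :
    Nat.card M ≤ J * Nat.card (M ⊓ A : Subgroup G) := by
  refine Nat.le_of_mul_le_mul_right (c := Nat.card A) ?_ Nat.card_pos
  calc Nat.card M * Nat.card A
      ≤ Nat.card (centralizer ({g} : Set G)) * Nat.card (M ⊓ A : Subgroup G) :=
        card_mul_card_le_card_mul_inf (hM.le_centralizer hgM) hA
    _ ≤ J * Nat.card A * Nat.card (M ⊓ A : Subgroup G) := Nat.mul_le_mul_right _ hcard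
    _ = J * Nat.card (M ⊓ A : Subgroup G) * Nat.card A := by ring

/-- A torus. -/
def Torus (Z : Subgroup G) (L : ℕ) (T : Subgroup G) : Prop :=
  Ab Z T ∧ Big Z L T ∧ ∀ M : Subgroup G, Ab Z M → Big Z L M → Shares Z M T → Nat.card M ≤ Nat.card T

theorem Big.of_card_le {L : ℕ} {M N : Subgroup G} (hM : Big Z L M) (h : Nat.card M ≤ Nat.card N) :
    Big Z L N := lt_of_lt_of_le hM h

theorem shares_symm {M N : Subgroup G} (h : Shares Z M N) : Shares Z N M := by
  rwa [Shares, inf_comm]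

/-- A torus absorbs bounded-index parts of the big abelian subgroups it meets. -/
theorem card_le_sq_mul_inf {L : ℕ} (H : Hyp Z J) {M T : Subgroup G} (hM : Ab Z M)
    (hT : Ab Z T) (hTb : Big Z L T)
    (hmax : ∀ A : Subgroup G, Ab Z A → Big Z L A → Shares Z A M → Shares Z A T → Nat.card A ≤ Nat.card T)
    (hs : Shares Z M T) : Nat.card M ≤ J * J * Nat.card (M ⊓ T : Subgroup G) := by
  obtain ⟨y, ⟨hyM, hyT⟩, hyZ⟩ := SetLike.not_le_iff_exists.mp hs
  obtain ⟨A, hA, hyA, hAc, hcard, hAmax⟩ := H.exists_max hyZ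
  have h1 : Nat.card A ≤ Nat.card T := hmax A hA (hTb.of_card_le (hAmax T hT hyT))
    (fun h => hyZ (h ⟨hyA, hyM⟩)) (fun h => hyZ (h ⟨hyA, hyT⟩))
  have h2 : Nat.card A ≤ J * Nat.card (T ⊓ A : Subgroup G) :=
    h1.trans (card_le_mul_inf hT hyT hAc hcard)
  have h3 : Nat.card (M ⊓ A : Subgroup G) ≤ J * Nat.card (M ⊓ T : Subgroup G) := by
    refine Nat.le_of_mul_le_mul_right (c := Nat.card (T ⊓ A : Subgroup G)) ?_ Nat.card_pos
    calc Nat.card (M ⊓ A : Subgroup G) * Nat.card (T ⊓ A : Subgroup G)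
        ≤ Nat.card A * Nat.card ((M ⊓ A) ⊓ (T ⊓ A) : Subgroup G) :=
          card_mul_card_le_card_mul_inf inf_le_right inf_le_right
      _ ≤ J * Nat.card (T ⊓ A : Subgroup G) * Nat.card (M ⊓ T : Subgroup G) :=
          Nat.mul_le_mul h2 (Nat.le_of_dvd Nat.card_pos
            (card_dvd_of_le (inf_le_inf inf_le_left inf_le_left)))
      _ = J * Nat.card (M ⊓ T : Subgroup G) * Nat.card (T ⊓ A : Subgroup G) := by ring
  calc Nat.card M ≤ J * Nat.card (M ⊓ A : Subgroup G) := card_le_mul_inf hM hyM hAc hcard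
    _ ≤ J * (J * Nat.card (M ⊓ T : Subgroup G)) := Nat.mul_le_mul_left _ h3
    _ = J * J * Nat.card (M ⊓ T : Subgroup G) := by ring

theorem Torus.card_le_inf {L : ℕ} (H : Hyp Z J) {M T : Subgroup G} (hT : Torus Z L T) (hM : Ab Z M)
    (hs : Shares Z M T) : Nat.card M ≤ J * J * Nat.card (M ⊓ T : Subgroup G) :=
  card_le_sq_mul_inf H hM hT.1 hT.2.1 (fun A h1 h2 _ h4 => hT.2.2 A h1 h2 h4) hs

/-- Every big abelian subgroup meets a torus. -/
theorem exists_torus {L : ℕ} (H : Hyp Z J) (hL : J * J * J ≤ L) {M : Subgroup G} (hM : Ab Z M)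
    (hMb : Big Z L M) : ∃ T : Subgroup G, Torus Z L T ∧ Shares Z M T := by
  have h1L : 1 ≤ L := le_trans (Nat.one_le_iff_ne_zero.mpr (by
    have := H.one_le
    positivity)) hL
  have hMZ : ¬ M ≤ Z := not_le_of_card h1L hMb (by rw [one_mul])
  obtain ⟨T, ⟨hT, hTb, hs⟩, hmax⟩ :=
    Set.exists_max_image {M' : Subgroup G | Ab Z M' ∧ Big Z L M' ∧ Shares Z M M'}
      (fun M => Nat.card M) (Set.toFinite _) ⟨M, hM, hMb, by rwa [Shares, inf_idem]⟩
  have hMT : Nat.card M ≤ J * J * Nat.card (M ⊓ T : Subgroup G) :=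
    card_le_sq_mul_inf H hM hT hTb (fun A h1 h2 h3 _ => hmax A ⟨h1, h2, shares_symm h3⟩) hs
  refine ⟨T, ⟨hT, hTb, fun N hN _ hsN => ?_⟩, hs⟩
  obtain ⟨y, ⟨hyN, hyT⟩, hyZ⟩ := SetLike.not_le_iff_exists.mp hsN
  obtain ⟨A, hA, hyA, hAc, hcard, hAmax⟩ := H.exists_max hyZ
  have h2 : Nat.card T ≤ J * Nat.card (T ⊓ A : Subgroup G) := card_le_mul_inf hT hyT hAc hcard
  have h3 : Nat.card (M ⊓ T : Subgroup G) ≤ J * Nat.card (M ⊓ A : Subgroup G) := by
    refine Nat.le_of_mul_le_mul_right (c := Nat.card (T ⊓ A : Subgroup G)) ?_ Nat.card_pos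
    calc Nat.card (M ⊓ T : Subgroup G) * Nat.card (T ⊓ A : Subgroup G)
        ≤ Nat.card T * Nat.card ((M ⊓ T) ⊓ (T ⊓ A) : Subgroup G) :=
          card_mul_card_le_card_mul_inf inf_le_right inf_le_left
      _ ≤ J * Nat.card (T ⊓ A : Subgroup G) * Nat.card (M ⊓ A : Subgroup G) :=
          Nat.mul_le_mul h2 (Nat.le_of_dvd Nat.card_pos
            (card_dvd_of_le (inf_le_inf inf_le_left inf_le_right)))
      _ = J * Nat.card (M ⊓ A : Subgroup G) * Nat.card (T ⊓ A : Subgroup G) := by ring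
  have hsA : Shares Z M A := not_le_of_card hL hMb (by
    calc Nat.card M ≤ J * J * Nat.card (M ⊓ T : Subgroup G) := hMT
      _ ≤ J * J * (J * Nat.card (M ⊓ A : Subgroup G)) := Nat.mul_le_mul_left _ h3
      _ = J * J * J * Nat.card (M ⊓ A : Subgroup G) := by ring)
  exact (hAmax N hN hyN).trans (hmax A ⟨hA, hTb.of_card_le (hAmax T hT hyT), hsA⟩)

/-- Two tori meeting a common big abelian subgroup meet each other. -/
theorem shares_of_shares {L : ℕ} (H : Hyp Z J) (hL : J * J * (J * J) ≤ L) {M T T' : Subgroup G}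
    (hM : Ab Z M) (hMb : Big Z L M) (hT : Torus Z L T) (hT' : Torus Z L T') (hs : Shares Z M T)
    (hs' : Shares Z M T') : Shares Z T T' := by
  have h1 := hT.card_le_inf H hM hs
  have h2 := hT'.card_le_inf H hM hs'
  have h3 : Nat.card M ≤ J * J * (J * J) * Nat.card (T ⊓ T' : Subgroup G) := by
    refine Nat.le_of_mul_le_mul_right (c := Nat.card M) ?_ Nat.card_pos
    calc Nat.card M * Nat.card M
        ≤ J * J * Nat.card (M ⊓ T : Subgroup G) * (J * J * Nat.card (M ⊓ T' : Subgroup G)) :=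
          Nat.mul_le_mul h1 h2
      _ = J * J * (J * J) * (Nat.card (M ⊓ T : Subgroup G) * Nat.card (M ⊓ T' : Subgroup G)) := by
          ring
      _ ≤ J * J * (J * J) * (Nat.card M * Nat.card ((M ⊓ T) ⊓ (M ⊓ T') : Subgroup G)) :=
          Nat.mul_le_mul_left _ (card_mul_card_le_card_mul_inf inf_le_left inf_le_left)
      _ ≤ J * J * (J * J) * (Nat.card M * Nat.card (T ⊓ T' : Subgroup G)) :=
          Nat.mul_le_mul_left _ (Nat.mul_le_mul_left _ (Nat.le_of_dvd Nat.card_pos
            (card_dvd_of_le (inf_le_inf inf_le_right inf_le_right))))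
      _ = J * J * (J * J) * Nat.card (T ⊓ T' : Subgroup G) * Nat.card M := by ring
  exact not_le_of_card hL hMb h3

/-- Tori which meet have the same order. -/
theorem Torus.card_eq {L : ℕ} {T T' : Subgroup G} (hT : Torus Z L T) (hT' : Torus Z L T')
    (hs : Shares Z T T') : Nat.card T = Nat.card T' :=
  le_antisymm (hT'.2.2 T hT.1 hT.2.1 hs) (hT.2.2 T' hT'.1 hT'.2.1 (shares_symm hs))

theorem Torus.shares_self {L : ℕ} {T : Subgroup G} (hL : 1 ≤ L) (hT : Torus Z L T) :
    Shares Z T T := by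
  rw [Shares, inf_idem]
  exact not_le_of_card hL hT.2.1 (by rw [one_mul])

/-- The intersection of the class of a torus. -/
def core (Z : Subgroup G) (L : ℕ) (T : Subgroup G) : Subgroup G :=
  ⨅ T' : {T' : Subgroup G // Torus Z L T' ∧ Shares Z T T'}, T'.1

/-- Index bound for the core. -/
def coreBound (J : ℕ) : ℕ := (J * J) ^ J

theorem one_le_coreBound (hJ : 1 ≤ J) : 1 ≤ coreBound J :=
  Nat.one_le_pow _ _ (Nat.mul_pos hJ hJ)

theorem core_le {L : ℕ} {T T' : Subgroup G} (hT' : Torus Z L T') (hs : Shares Z T T') :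
    core Z L T ≤ T' :=
  iInf_le_of_le ⟨T', hT', hs⟩ le_rfl

theorem le_core {L : ℕ} {T Y : Subgroup G}
    (h : ∀ T' : Subgroup G, Torus Z L T' → Shares Z T T' → Y ≤ T') : Y ≤ core Z L T :=
  le_iInf fun x => h x.1 x.2.1 x.2.2

/-- The core has bounded index. -/
theorem card_le_core {L : ℕ} (H : Hyp Z J) (hL : J * J * (J * J) ≤ L) {T : Subgroup G}
    (hT : Torus Z L T) : Nat.card T ≤ coreBound J * Nat.card (core Z L T) := by
  have h1L : 1 ≤ L := le_trans (Nat.one_le_iff_ne_zero.mpr (by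
    have := H.one_le
    positivity)) hL
  obtain ⟨d, hdJ, hd⟩ := H.chain
  suffices key : ∀ k, ∀ Y : Subgroup G, Y ≤ T → core Z L T ≤ Y → J - d Y ≤ k →
      Nat.card Y ≤ (J * J) ^ k * Nat.card (core Z L T) by
    exact key J T le_rfl (core_le hT (hT.shares_self h1L)) (Nat.sub_le _ _)
  intro k
  induction k using Nat.strong_induction_on with
  | _ k ih =>
  intro Y hYT hYc hk
  by_cases hall : ∀ T' : Subgroup G, Torus Z L T' → Shares Z T T' → Y ≤ T'
  · calc Nat.card Y ≤ 1 * Nat.card (core Z L T) := by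
          rw [one_mul]; exact Nat.le_of_dvd Nat.card_pos (card_dvd_of_le (le_core hall))
      _ ≤ _ := Nat.mul_le_mul_right _ (Nat.one_le_pow _ _ (Nat.mul_pos H.one_le H.one_le))
  push Not at hall
  obtain ⟨T', hT', hs, hYT'⟩ := hall
  set Y' := Y ⊓ T' with hY'
  have hlt : centralizer (Y : Set G) < centralizer (Y' : Set G) := by
    refine lt_of_le_of_ne (centralizer_le (inf_le_left : Y' ≤ Y)) fun heq => hYT' ?_
    have hcT' : T' ≤ centralizer (Y : Set G) := by
      rw [heq]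
      exact fun x hx => mem_centralizer_iff.mpr fun y hy => hT'.1.2 y hy.2 x hx
    have hAb : Ab Z (T' ⊔ Y) := ab_sup hT'.1 (fun a ha b hb => hT.1.2 a (hYT ha) b (hYT hb))
      (le_centralizer_iff.mp hcT')
    have hle : Nat.card (T' ⊔ Y : Subgroup G) ≤ Nat.card T' :=
      hT'.2.2 _ hAb (hT'.2.1.of_card_le (Nat.le_of_dvd Nat.card_pos (card_dvd_of_le le_sup_left)))
        (fun h => not_le_of_card h1L hT'.2.1 (by rw [one_mul])
          (le_trans (le_inf le_sup_left le_rfl) h))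
    have heq' : T' = T' ⊔ Y := eq_of_le_of_card_ge le_sup_left hle
    exact le_sup_right.trans heq'.ge
  have hd' := hd Y Y' hlt
  have hdY' := hdJ Y'
  obtain ⟨k', rfl⟩ : ∃ k', k = k' + 1 := ⟨k - 1, by omega⟩
  have hrec := ih k' (Nat.lt_succ_self _) Y' (inf_le_left.trans hYT) (le_inf hYc (core_le hT' hs))
    (by omega)
  have hstep : Nat.card Y ≤ J * J * Nat.card Y' := by
    refine Nat.le_of_mul_le_mul_right (c := Nat.card (T ⊓ T' : Subgroup G)) ?_ Nat.card_pos
    calc Nat.card Y * Nat.card (T ⊓ T' : Subgroup G)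
        ≤ Nat.card T * Nat.card (Y ⊓ (T ⊓ T') : Subgroup G) :=
          card_mul_card_le_card_mul_inf hYT inf_le_left
      _ ≤ J * J * Nat.card (T ⊓ T' : Subgroup G) * Nat.card Y' :=
          Nat.mul_le_mul (hT'.card_le_inf H hT.1 hs)
            (Nat.le_of_dvd Nat.card_pos (card_dvd_of_le (inf_le_inf le_rfl inf_le_right)))
      _ = J * J * Nat.card Y' * Nat.card (T ⊓ T' : Subgroup G) := by ring
  calc Nat.card Y ≤ J * J * Nat.card Y' := hstep
    _ ≤ J * J * ((J * J) ^ k' * Nat.card (core Z L T)) := Nat.mul_le_mul_left _ hrec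
    _ = (J * J) ^ (k' + 1) * Nat.card (core Z L T) := by ring

end Cfsg.Agent.JordanP
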